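import Mathlib
import Groth.Prelude.Def_Wider

/-!
Essential injections and injective hulls of modules.
-/

namespace Groth.Agent.InjHull

universe u v

section Essential

variable {R : Type u} [CommRing R]
  {M : Type v} [AddCommGroup M] [Module R M] {E : Type v} [AddCommGroup E] [Module R E]
  {F : Type v} [AddCommGroup F] [Module R F]

theorem isEssentialInj_iff {f : M →ₗ[R] E} :
    _root_.InjHull.IsEssentialInj f ↔ Function.Injective f ∧
      ∀ x : E, x ≠ 0 → ∃ r : R, r • x ∈ LinearMap.range f ∧ r • x ≠ 0 := by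
  constructor
  · refine fun h => ⟨h.injective, fun x hx => ?_⟩
    obtain ⟨y, hy, hy0⟩ := Submodule.exists_mem_ne_zero_of_ne_bot
      (h.essential (Submodule.span R {x}) (by simpa [Submodule.span_singleton_eq_bot] using hx))
    obtain ⟨r, rfl⟩ := Submodule.mem_span_singleton.1 hy.1
    exact ⟨r, hy.2, hy0⟩
  · refine fun h => ⟨h.1, fun N hN hbot => ?_⟩
    obtain ⟨x, hxN, hx0⟩ := Submodule.exists_mem_ne_zero_of_ne_bot hN
    obtain ⟨r, hr, hr0⟩ := h.2 x hx0
    have : r • x ∈ N ⊓ LinearMap.range f := ⟨N.smul_mem r hxN, hr⟩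
    rw [hbot] at this
    exact hr0 this

theorem exists_smul_eq_of_isEssentialInj {f : M →ₗ[R] E} (hf : _root_.InjHull.IsEssentialInj f)
    {x : E} (hx : x ≠ 0) : ∃ (r : R) (a : M), f a = r • x ∧ a ≠ 0 := by
  obtain ⟨r, ⟨a, ha⟩, h0⟩ := (isEssentialInj_iff.1 hf).2 x hx
  exact ⟨r, a, ha, fun ha0 => h0 (by rw [← ha, ha0, map_zero])⟩

theorem injective_of_comp {f : M →ₗ[R] E} (hf : _root_.InjHull.IsEssentialInj f) {α : E →ₗ[R] F}
    (h : Function.Injective (α ∘ₗ f)) : Function.Injective α := by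
  refine (injective_iff_map_eq_zero α).2 fun x hx => ?_
  by_contra hx0
  obtain ⟨r, a, ha, ha0⟩ := exists_smul_eq_of_isEssentialInj hf hx0
  refine ha0 ((injective_iff_map_eq_zero (α ∘ₗ f)).1 h a ?_)
  rw [LinearMap.comp_apply, ha, map_smul, hx, smul_zero]

theorem isEssentialInj_comp {f : M →ₗ[R] E} {g : E →ₗ[R] F}
    (hg : _root_.InjHull.IsEssentialInj g) (hf : _root_.InjHull.IsEssentialInj f) :
    _root_.InjHull.IsEssentialInj (g ∘ₗ f) := by
  refine isEssentialInj_iff.2 ⟨hg.injective.comp hf.injective, fun x hx => ?_⟩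
  obtain ⟨r, a, ha, ha0⟩ := exists_smul_eq_of_isEssentialInj hg hx
  obtain ⟨s, b, hb, hb0⟩ := exists_smul_eq_of_isEssentialInj hf ha0
  refine ⟨s * r, ⟨b, ?_⟩, ?_⟩
  · rw [LinearMap.comp_apply, hb, map_smul, ha, mul_smul]
  · rw [mul_smul, ← ha, ← map_smul, ← hb]
    exact fun h => hb0 (hf.injective (hg.injective (by simpa using h)))

/-- If a composite is essential and the second map is injective, the second map is essential. -/
theorem isEssentialInj_of_comp {f : M →ₗ[R] E} {g : E →ₗ[R] F}
    (h : _root_.InjHull.IsEssentialInj (g ∘ₗ f)) (hg : Function.Injective g) :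
    _root_.InjHull.IsEssentialInj g := by
  refine isEssentialInj_iff.2 ⟨hg, fun x hx => ?_⟩
  obtain ⟨r, ⟨a, ha⟩, h0⟩ := (isEssentialInj_iff.1 h).2 x hx
  exact ⟨r, ⟨f a, ha⟩, h0⟩

theorem isEssentialInj_equiv (e : E ≃ₗ[R] F) : _root_.InjHull.IsEssentialInj e.toLinearMap :=
  isEssentialInj_iff.2 ⟨e.injective, fun x hx => ⟨1, ⟨e.symm x, by simp⟩, by simpa using hx⟩⟩

end Essential

section Injective

variable {R : Type u} [CommRing R] {M : Type u} [AddCommGroup M] [Module R M]
  {E : Type u} [AddCommGroup E] [Module R E] {F : Type u} [AddCommGroup F] [Module R F]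

/-- A retract of an injective module is injective. -/
theorem injective_of_retract [Module.Injective R F] (i : E →ₗ[R] F) (p : F →ₗ[R] E)
    (h : p ∘ₗ i = LinearMap.id) : Module.Injective R E := by
  refine ⟨fun X Y _ _ _ _ f hf g => ?_⟩
  obtain ⟨k, hk⟩ := Module.Injective.out (R := R) f hf (i ∘ₗ g)
  exact ⟨p ∘ₗ k, fun x => by
    rw [LinearMap.comp_apply, hk]
    exact LinearMap.congr_fun h (g x)⟩

theorem injective_of_linearEquiv (e : E ≃ₗ[R] F) [Module.Injective R E] : Module.Injective R F :=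
  injective_of_retract e.symm.toLinearMap e.toLinearMap
    (LinearMap.ext fun x => e.apply_symm_apply x)

/-- The image of an injective module in any module is a direct summand. -/
theorem exists_isCompl_range [Module.Injective R E] (α : E →ₗ[R] F) (hα : Function.Injective α) :
    ∃ C : Submodule R F, IsCompl (LinearMap.range α) C := by
  obtain ⟨ρ, hρ⟩ := Module.Injective.out (R := R) α hα LinearMap.id
  have h := LinearMap.isCompl_of_proj (f := (α ∘ₗ ρ).codRestrict (LinearMap.range α)
    (fun x => LinearMap.mem_range_self α (ρ x))) (by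
      rintro ⟨_, a, rfl⟩
      refine Subtype.ext ?_
      show α (ρ (α a)) = α a
      rw [hρ, LinearMap.id_apply])
  rw [LinearMap.ker_codRestrict] at h
  exact ⟨_, h⟩

theorem exists_isCompl_of_injective (N : Submodule R F) [Module.Injective R N] :
    ∃ C : Submodule R F, IsCompl N C := by
  obtain ⟨C, hC⟩ := exists_isCompl_range N.subtype N.injective_subtype
  exact ⟨C, by rwa [Submodule.range_subtype] at hC⟩

theorem exists_injective_embedding (R : Type u) [CommRing R] (M : Type u) [AddCommGroup M]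
    [Module R M] : ∃ (I : Type u) (_ : AddCommGroup I) (_ : Module R I),
      Module.Injective R I ∧ ∃ i : M →ₗ[R] I, Function.Injective i := by
  let J := CategoryTheory.Injective.under (ModuleCat.of R M)
  let ι := CategoryTheory.Injective.ι (ModuleCat.of R M)
  refine ⟨J, inferInstance, inferInstance, ?_, ι.hom, (ModuleCat.mono_iff_injective ι).1 inferInstance⟩
  have : CategoryTheory.Injective (ModuleCat.of R J) :=
    (inferInstance : CategoryTheory.Injective J)
  exact Module.injective_module_of_injective_object R J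

theorem exists_maximal_disjoint (N : Submodule R F) :
    ∃ C : Submodule R F, Maximal (fun C => Disjoint C N) C := by
  refine zorn_le₀ {C : Submodule R F | Disjoint C N} fun c hc hchain => ?_
  refine ⟨sSup c, ?_, fun z hz => le_sSup hz⟩
  show Disjoint (sSup c) N
  rcases c.eq_empty_or_nonempty with rfl | hne
  · simp
  rw [Submodule.disjoint_def]
  intro x hx hxN
  obtain ⟨C, hC, hxC⟩ := (Submodule.mem_sSup_of_directed hne hchain.directedOn).1 hx
  exact Submodule.disjoint_def.1 (hc hC) x hxC hxN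

theorem isEssentialInj_mkQ_comp {C : Submodule R F} (i : M →ₗ[R] F) (hi : Function.Injective i)
    (hC : Maximal (fun C => Disjoint C (LinearMap.range i)) C) :
    _root_.InjHull.IsEssentialInj (C.mkQ ∘ₗ i) := by
  refine isEssentialInj_iff.2 ⟨(injective_iff_map_eq_zero (C.mkQ ∘ₗ i)).2 fun a ha => ?_, fun x hx => ?_⟩
  · have hmem : i a ∈ C := by
      rw [← Submodule.ker_mkQ C]
      exact ha
    exact hi ((Submodule.disjoint_def.1 hC.1 _ hmem ⟨a, rfl⟩).trans (map_zero i).symm)
  · obtain ⟨y, rfl⟩ := C.mkQ_surjective x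
    by_contra hcon
    push Not at hcon
    have hle : C ⊔ Submodule.span R {y} ≤ C := by
      refine hC.2 ?_ le_sup_left
      show Disjoint _ _
      rw [Submodule.disjoint_def]
      rintro z hz ⟨a, rfl⟩
      obtain ⟨c, hc, w, hw, hcw⟩ := Submodule.mem_sup.1 hz
      obtain ⟨r, rfl⟩ := Submodule.mem_span_singleton.1 hw
      have e : C.mkQ (i a) = r • C.mkQ y := by
        rw [← hcw, map_add, map_smul]
        simpa using hc
      have h0 := hcon r ⟨a, e⟩
      have : i a ∈ C := by
        rw [← Submodule.ker_mkQ C, LinearMap.mem_ker, e, h0]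
      exact Submodule.disjoint_def.1 hC.1 _ this ⟨a, rfl⟩
    apply hx
    rw [Submodule.mkQ_apply, Submodule.Quotient.mk_eq_zero]
    exact hle (Submodule.mem_sup_right (Submodule.mem_span_singleton_self y))

/-- A submodule of an injective module without proper essential extensions is injective. -/
theorem injective_of_no_essential_extension [Module.Injective R F] (E : Submodule R F)
    (h : ∀ E' : Submodule R F, E ≤ E' →
      (∀ x ∈ E', x ≠ 0 → ∃ r : R, r • x ∈ E ∧ r • x ≠ 0) → E' = E) :
    Module.Injective R E := by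
  obtain ⟨C, hC⟩ := exists_maximal_disjoint E
  have hC' : Maximal (fun C => Disjoint C (LinearMap.range E.subtype)) C := by
    rwa [Submodule.range_subtype]
  have hess := isEssentialInj_mkQ_comp E.subtype E.injective_subtype hC'
  obtain ⟨φ, hφ⟩ := Module.Injective.out (R := R) (C.mkQ ∘ₗ E.subtype) hess.injective E.subtype
  have hφinj : Function.Injective φ :=
    injective_of_comp hess (by rw [show φ ∘ₗ (C.mkQ ∘ₗ E.subtype) = E.subtype from LinearMap.ext hφ]
                               exact E.injective_subtype)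
  have hrange : LinearMap.range φ = E := by
    refine h _ (fun x hx => ⟨_, hφ ⟨x, hx⟩⟩) ?_
    rintro _ ⟨q, rfl⟩ hq0
    obtain ⟨r, a, ha, ha0⟩ := exists_smul_eq_of_isEssentialInj hess (x := q)
      (fun hq => hq0 (by rw [hq, map_zero]))
    have e : r • φ q = (a : F) := by
      rw [← map_smul, ← ha]
      exact hφ a
    exact ⟨r, e ▸ a.2, e ▸ fun h0 => ha0 (Subtype.ext h0)⟩
  let p : F →ₗ[R] E := (φ ∘ₗ C.mkQ).codRestrict E fun x => hrange.le ⟨_, rfl⟩
  exact injective_of_retract E.subtype p (LinearMap.ext fun a => Subtype.ext (hφ a))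

theorem exists_maximal_essential (N : Submodule R F) :
    ∃ E : Submodule R F, N ≤ E ∧
      Maximal (fun E => ∀ x ∈ E, x ≠ 0 → ∃ r : R, r • x ∈ N ∧ r • x ≠ 0) E := by
  refine zorn_le_nonempty₀ {E : Submodule R F | ∀ x ∈ E, x ≠ 0 → ∃ r : R, r • x ∈ N ∧ r • x ≠ 0}
    (fun c hc hchain y hy => ⟨sSup c, ?_, fun z hz => le_sSup hz⟩) N
    (fun x hx hx0 => ⟨1, by simpa using hx, by simpa using hx0⟩)
  intro x hx hx0
  obtain ⟨E, hE, hxE⟩ := (Submodule.mem_sSup_of_directed ⟨y, hy⟩ hchain.directedOn).1 hx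
  exact hc hE x hxE hx0

/-- Every submodule of an injective module has an injective hull inside that module. -/
theorem exists_injective_essential_extension [Module.Injective R F] (N : Submodule R F) :
    ∃ E : Submodule R F, N ≤ E ∧ Module.Injective R E ∧
      ∀ x ∈ E, x ≠ 0 → ∃ r : R, r • x ∈ N ∧ r • x ≠ 0 := by
  obtain ⟨E, hNE, hE⟩ := exists_maximal_essential N
  refine ⟨E, hNE, injective_of_no_essential_extension E fun E' hle hess => ?_, hE.1⟩
  refine le_antisymm (hE.2 ?_ hle) hle
  intro x hx hx0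
  obtain ⟨r, hr, hr0⟩ := hess x hx hx0
  obtain ⟨s, hs, hs0⟩ := hE.1 _ hr hr0
  exact ⟨s * r, by rwa [mul_smul], by rwa [mul_smul]⟩

theorem exists_isInjectiveHull (R : Type u) [CommRing R] (M : Type u) [AddCommGroup M]
    [Module R M] : ∃ (E : Type u) (_ : AddCommGroup E) (_ : Module R E) (f : M →ₗ[R] E),
      _root_.InjHull.IsInjectiveHull f := by
  obtain ⟨I, _, _, hI, i, hi⟩ := exists_injective_embedding R M
  obtain ⟨E, hE, hEinj, hess⟩ := exists_injective_essential_extension (LinearMap.range i)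
  let f : M →ₗ[R] E := i.codRestrict E fun a => hE ⟨a, rfl⟩
  refine ⟨E, inferInstance, inferInstance, f, ⟨isEssentialInj_iff.2 ⟨?_, ?_⟩, hEinj⟩⟩
  · exact fun a b h => hi (congrArg Subtype.val h)
  · rintro ⟨x, hx⟩ hx0
    obtain ⟨r, ⟨a, ha⟩, hr0⟩ := hess x hx (fun h => hx0 (Subtype.ext h))
    exact ⟨r, ⟨a, Subtype.ext ha⟩, fun h => hr0 (congrArg Subtype.val h)⟩

/-- The universal property of an injective hull with respect to injective embeddings. -/
theorem exists_injective_extend {f : M →ₗ[R] E} (hf : _root_.InjHull.IsEssentialInj f)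
    [Module.Injective R F] (g : M →ₗ[R] F) (hg : Function.Injective g) :
    ∃ α : E →ₗ[R] F, Function.Injective α ∧ α ∘ₗ f = g := by
  obtain ⟨α, hα⟩ := Module.Injective.out (R := R) f hf.injective g
  have e : α ∘ₗ f = g := LinearMap.ext hα
  exact ⟨α, injective_of_comp hf (e ▸ hg), e⟩

theorem injectiveHull_unique {f : M →ₗ[R] E} (hf : _root_.InjHull.IsInjectiveHull f)
    {g : M →ₗ[R] F} (hg : _root_.InjHull.IsInjectiveHull g) :
    ∃ e : E ≃ₗ[R] F, e.toLinearMap ∘ₗ f = g := by
  have := hf.isInjective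
  have := hg.isInjective
  obtain ⟨α, hα, e⟩ := exists_injective_extend hf.toIsEssentialInj g hg.injective
  obtain ⟨C, hC⟩ := exists_isCompl_range α hα
  have hCbot : C = ⊥ := by
    by_contra hne
    obtain ⟨y, hy, hy0⟩ := Submodule.exists_mem_ne_zero_of_ne_bot (hg.essential C hne)
    obtain ⟨a, rfl⟩ := hy.2
    exact hy0 (Submodule.disjoint_def.1 hC.disjoint _ ⟨f a, LinearMap.congr_fun e a⟩ hy.1)
  have hsurj : Function.Surjective α := by
    rw [← LinearMap.range_eq_top]
    have := hC.sup_eq_top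
    rwa [hCbot, sup_bot_eq] at this
  exact ⟨LinearEquiv.ofBijective α ⟨hα, hsurj⟩, e⟩

theorem isInjectiveHull_of_linearEquiv {f : M →ₗ[R] E} (hf : _root_.InjHull.IsInjectiveHull f)
    (e : E ≃ₗ[R] F) : _root_.InjHull.IsInjectiveHull (e.toLinearMap ∘ₗ f) := by
  have := hf.isInjective
  exact ⟨isEssentialInj_comp (isEssentialInj_equiv e) hf.toIsEssentialInj,
    injective_of_linearEquiv e⟩

/-- An indecomposable injective module is uniform. -/
theorem inf_ne_bot_of_indecomposable [Module.Injective R E]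
    (hE : _root_.InjHull.IsIndecomposable R E) {N N' : Submodule R E} (hN : N ≠ ⊥) (hN' : N' ≠ ⊥) :
    N ⊓ N' ≠ ⊥ := by
  obtain ⟨E₁, hle, hinj, hess⟩ := exists_injective_essential_extension N
  obtain ⟨C, hC⟩ := exists_isCompl_of_injective E₁
  rcases hE.2 E₁ C hC with h | h
  · exact absurd (le_bot_iff.1 (hle.trans h.le)) hN
  · have htop : E₁ = ⊤ := by
      have := hC.sup_eq_top
      rwa [h, sup_bot_eq] at this
    obtain ⟨x, hxN', hx0⟩ := Submodule.exists_mem_ne_zero_of_ne_bot hN'
    obtain ⟨r, hr, hr0⟩ := hess x (htop ▸ Submodule.mem_top) hx0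
    intro hbot
    have : r • x ∈ N ⊓ N' := ⟨hr, N'.smul_mem r hxN'⟩
    rw [hbot] at this
    exact hr0 this

/-- An essential extension of a cyclic domain module is indecomposable. -/
theorem isIndecomposable_of_quotient_prime {p : Ideal R} [p.IsPrime] {f : (R ⧸ p) →ₗ[R] E}
    (hf : _root_.InjHull.IsEssentialInj f) : _root_.InjHull.IsIndecomposable R E := by
  refine ⟨⟨f 1, 0, fun h => one_ne_zero (hf.injective (h.trans (map_zero f).symm))⟩,
    fun N N' hNN' => ?_⟩
  by_contra hcon
  push Not at hcon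
  obtain ⟨x, hx, hx0⟩ := Submodule.exists_mem_ne_zero_of_ne_bot hcon.1
  obtain ⟨y, hy, hy0⟩ := Submodule.exists_mem_ne_zero_of_ne_bot hcon.2
  obtain ⟨r, a, ha, ha0⟩ := exists_smul_eq_of_isEssentialInj hf hx0
  obtain ⟨s, b, hb, hb0⟩ := exists_smul_eq_of_isEssentialInj hf hy0
  obtain ⟨a', rfl⟩ := Ideal.Quotient.mk_surjective a
  obtain ⟨b', rfl⟩ := Ideal.Quotient.mk_surjective b
  have e : ∀ c d : R, c • (Ideal.Quotient.mk p d : R ⧸ p) = Ideal.Quotient.mk p (c * d) :=
    fun c d => rfl
  have h1 : f (Ideal.Quotient.mk p (b' * a')) ∈ N := by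
    rw [← e, map_smul, ha]
    exact N.smul_mem _ (N.smul_mem _ hx)
  have h2 : f (Ideal.Quotient.mk p (a' * b')) ∈ N' := by
    rw [← e, map_smul, hb]
    exact N'.smul_mem _ (N'.smul_mem _ hy)
  rw [mul_comm] at h1
  have h0 := hf.injective ((Submodule.disjoint_def.1 hNN'.disjoint _ h1 h2).trans (map_zero f).symm)
  rw [map_mul, mul_eq_zero] at h0
  exact h0.elim ha0 hb0

/-- The inclusion of `R ⧸ p` in the residue field at `p` is essential. -/
theorem isEssentialInj_quotient_residueField (p : Ideal R) [p.IsPrime] :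
    _root_.InjHull.IsEssentialInj
      (IsScalarTower.toAlgHom R (R ⧸ p) p.ResidueField).toLinearMap := by
  refine isEssentialInj_iff.2 ⟨IsFractionRing.injective (R ⧸ p) p.ResidueField, fun x hx => ?_⟩
  obtain ⟨a, b, hb, rfl⟩ := IsFractionRing.div_surjective (R ⧸ p) x
  obtain ⟨b', rfl⟩ := Ideal.Quotient.mk_surjective b
  have hb0 : algebraMap (R ⧸ p) p.ResidueField (Ideal.Quotient.mk p b') ≠ 0 :=
    (map_ne_zero_iff _ (IsFractionRing.injective (R ⧸ p) p.ResidueField)).2
      (nonZeroDivisors.ne_zero hb)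
  have e : b' • (algebraMap (R ⧸ p) p.ResidueField a
      / algebraMap (R ⧸ p) p.ResidueField (Ideal.Quotient.mk p b'))
      = algebraMap (R ⧸ p) p.ResidueField a := by
    rw [← IsScalarTower.algebraMap_smul (R ⧸ p) b', Ideal.Quotient.algebraMap_eq, Algebra.smul_def,
      mul_div_cancel₀ _ hb0]
  refine ⟨b', ⟨a, ?_⟩, ?_⟩
  · rw [e]
    rfl
  · rw [e]
    intro h0
    exact hx (by rw [h0, zero_div])

end Injective

end Groth.Agent.InjHull
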