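import Mathlib
import Groth.Prelude.Def_Wider
import Groth.Agent.InjHull.Basic

/-!
Injective modules over Noetherian rings.
-/

namespace Groth.Agent.InjHull

universe u v

open scoped DirectSum

variable {R : Type u} [CommRing R]

theorem injective_directSum [IsNoetherianRing R] {ι : Type u} (E : ι → Type u)
    [∀ i, AddCommGroup (E i)] [∀ i, Module R (E i)] (hE : ∀ i, Module.Injective R (E i)) :
    Module.Injective R (⨁ i, E i) := by
  classical
  refine Module.Baer.injective fun I g => ?_
  obtain ⟨s, hs⟩ := (isNoetherianRing_iff_ideal_fg R).1 inferInstance I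
  have hmem : ∀ a ∈ s, a ∈ I := fun a ha => hs ▸ Ideal.subset_span ha
  let S : Finset ι := s.attach.biUnion fun a => DFinsupp.support (g ⟨a.1, hmem a.1 a.2⟩)
  have hzero : ∀ i ∉ S, ∀ x : I, DirectSum.component R ι E i (g x) = 0 := by
    intro i hi x
    have hle : I ≤ Submodule.map I.subtype (LinearMap.ker (DirectSum.component R ι E i ∘ₗ g)) := by
      refine le_of_eq_of_le hs.symm (Ideal.span_le.2 fun a ha => ?_)
      refine ⟨⟨a, hmem a ha⟩, ?_, rfl⟩
      by_contra hne
      exact hi (Finset.mem_biUnion.2 ⟨⟨a, ha⟩, Finset.mem_attach _ _, DFinsupp.mem_support_iff.2 hne⟩)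
    obtain ⟨x', hx', hxx⟩ := hle x.2
    rw [← Subtype.ext hxx]
    exact hx'
  have hext : ∀ i, ∃ e : E i, ∀ x : I, DirectSum.component R ι E i (g x) = (x : R) • e := by
    intro i
    have := hE i
    obtain ⟨h, hh⟩ := Module.Injective.out (R := R) I.subtype I.injective_subtype
      (DirectSum.component R ι E i ∘ₗ g)
    refine ⟨h 1, fun x => ?_⟩
    rw [← map_smul, smul_eq_mul, mul_one]
    exact (hh x).symm
  choose e he using hext
  refine ⟨LinearMap.toSpanSingleton R _ (∑ i ∈ S, DirectSum.lof R ι E i (e i)), fun x hx => ?_⟩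
  refine DirectSum.ext_component R fun j => ?_
  rw [LinearMap.toSpanSingleton_apply, map_smul, map_sum]
  by_cases hj : j ∈ S
  · rw [Finset.sum_eq_single j (fun b _ hb => by simp [DirectSum.component.of, hb])
      (fun h => absurd hj h)]
    rw [DirectSum.component.lof_self, he j ⟨x, hx⟩]
  · rw [hzero j hj ⟨x, hx⟩, Finset.sum_eq_zero, smul_zero]
    intro b hb
    have : b ≠ j := fun h => hj (h ▸ hb)
    simp [DirectSum.component.of, this]

theorem mem_iSup_torsionBySet_iff {M : Type v} [AddCommGroup M] [Module R M] (J : Ideal R)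
    (x : M) : x ∈ (⨆ n : ℕ, Submodule.torsionBySet R M ((J ^ n : Ideal R) : Set R)) ↔
      ∃ n : ℕ, ∀ a ∈ J ^ n, a • x = 0 := by
  rw [Submodule.mem_iSup_of_directed _ (Monotone.directed_le ?_)]
  · simp [Submodule.mem_torsionBySet_iff]
  · intro m n hmn
    exact Submodule.torsionBySet_le_torsionBySet_of_subset (Ideal.pow_le_pow_right hmn)

/-- A map from an ideal to a power torsion module kills a deep enough power. -/
theorem exists_pow_vanish [IsNoetherianRing R] {H : Type v} [AddCommGroup H] [Module R H]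
    (J : Ideal R) (hH : _root_.LocCoh.IsPowerTorsion J H) (I : Ideal R) (g : I →ₗ[R] H) :
    ∃ m : ℕ, ∀ x : I, (x : R) ∈ J ^ m → g x = 0 := by
  classical
  obtain ⟨s, hs⟩ := Module.Finite.fg_top (R := R) (M := I)
  choose N hN using fun a : I => hH (g a)
  let n := s.sup N
  obtain ⟨c, hc⟩ := Ideal.exists_pow_inf_eq_pow_smul J (M := R) I
  refine ⟨n + c, fun x hx => ?_⟩
  have h1 : (x : R) ∈ J ^ (n + c) • (⊤ : Submodule R R) ⊓ I :=
    ⟨by rw [smul_eq_mul, Ideal.mul_top]; exact hx, x.2⟩
  rw [hc (n + c) (Nat.le_add_left c n), Nat.add_sub_cancel] at h1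
  have h2 : (x : R) ∈ (J ^ n • (⊤ : Submodule R I)).map I.subtype := by
    rw [Submodule.map_smul'', Submodule.map_top, Submodule.range_subtype]
    exact Submodule.smul_mono le_rfl inf_le_right h1
  obtain ⟨y, hy, hxy⟩ := h2
  have hx' : y = x := Subtype.ext hxy
  subst hx'
  refine Submodule.smul_induction_on hy (fun r hr z hzt => ?_) (fun a b ha hb => by rw [map_add, ha, hb, add_zero])
  rw [map_smul]
  have hz : z ∈ Submodule.span R (s : Set I) := hs ▸ Submodule.mem_top
  clear hzt
  induction hz using Submodule.span_induction with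
  | mem a ha => exact hN a r (Ideal.pow_le_pow_right (Finset.le_sup (f := N) ha) hr)
  | zero => simp
  | add a b _ _ ha hb => rw [map_add, smul_add, ha, hb, add_zero]
  | smul t a _ ha => rw [map_smul, smul_comm, ha, smul_zero]

/-- Extension property of a power torsion module against the quotients by powers suffices. -/
theorem injective_of_powerTorsion [IsNoetherianRing R] {H : Type u} [AddCommGroup H] [Module R H]
    (J : Ideal R) (hH : _root_.LocCoh.IsPowerTorsion J H)
    (hext : ∀ (m : ℕ) (N : Submodule R (R ⧸ J ^ m)) (g : N →ₗ[R] H),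
      ∃ g' : (R ⧸ J ^ m) →ₗ[R] H, g'.comp N.subtype = g) :
    Module.Injective R H := by
  refine Module.Baer.injective fun I g => ?_
  obtain ⟨m, hm⟩ := exists_pow_vanish J hH I g
  let q : I →ₗ[R] R ⧸ J ^ m := Submodule.mkQ (J ^ m) ∘ₗ I.subtype
  have hq : LinearMap.ker q ≤ LinearMap.ker g := fun x hx => by
    rw [LinearMap.mem_ker]
    refine hm x ?_
    rw [← Submodule.ker_mkQ (J ^ m)]
    exact hx
  let gbar : LinearMap.range q →ₗ[R] H :=
    (LinearMap.ker q).liftQ g hq ∘ₗ q.quotKerEquivRange.symm.toLinearMap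
  obtain ⟨g', hg'⟩ := hext m _ gbar
  refine ⟨g' ∘ₗ Submodule.mkQ (J ^ m), fun x hx => ?_⟩
  have h1 := LinearMap.congr_fun hg' ⟨q ⟨x, hx⟩, LinearMap.mem_range_self q _⟩
  simp only [LinearMap.comp_apply, Submodule.subtype_apply] at h1
  refine h1.trans ?_
  simp only [gbar, LinearMap.comp_apply, LinearEquiv.coe_coe,
    LinearMap.quotKerEquivRange_symm_apply_image, Submodule.mkQ_apply, Submodule.liftQ_apply]

theorem injective_iSup_torsionBySet [IsNoetherianRing R] (I : Type u) [AddCommGroup I]
    [Module R I] [Module.Injective R I] (J : Ideal R) :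
    Module.Injective R ↥(⨆ n : ℕ, Submodule.torsionBySet R I ((J ^ n : Ideal R) : Set R)) := by
  refine injective_of_powerTorsion J (fun x => ?_) fun m N g => ?_
  · obtain ⟨n, hn⟩ := (mem_iSup_torsionBySet_iff J (x : I)).1 x.2
    exact ⟨n, fun a ha => Subtype.ext (hn a ha)⟩
  · obtain ⟨h, hh⟩ := Module.Injective.out (R := R) N.subtype N.injective_subtype
      (Submodule.subtype _ ∘ₗ g)
    refine ⟨h.codRestrict _ fun z => (mem_iSup_torsionBySet_iff J (h z)).2 ⟨m, fun a ha => ?_⟩,
      LinearMap.ext fun z => Subtype.ext (hh z)⟩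
    rw [← map_smul]
    obtain ⟨z, rfl⟩ := Ideal.Quotient.mk_surjective z
    have : a • (Ideal.Quotient.mk (J ^ m) z : R ⧸ J ^ m) = 0 :=
      Ideal.Quotient.eq_zero_iff_mem.2 (Ideal.mul_mem_right z _ ha)
    rw [this, map_zero]

/-- Associated primes of an essential extension of `R ⧸ p`. -/
theorem exists_quotient_hull_of_indecomposable [IsNoetherianRing R] {E : Type u} [AddCommGroup E]
    [Module R E] [Module.Injective R E] (hE : _root_.InjHull.IsIndecomposable R E) :
    ∃ (p : Ideal R) (_ : p.IsPrime) (f : (R ⧸ p) →ₗ[R] E), _root_.InjHull.IsInjectiveHull f := by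
  have := hE.1
  obtain ⟨p, hp⟩ := associatedPrimes.nonempty R E
  obtain ⟨hpi, x, hx⟩ := isAssociatedPrime_iff.1 (AssociatedPrimes.mem_iff.1 hp)
  have hker : p = LinearMap.ker (LinearMap.toSpanSingleton R E x) := by
    ext r
    rw [hx, Submodule.mem_colon_singleton, Submodule.mem_bot, LinearMap.mem_ker,
      LinearMap.toSpanSingleton_apply]
  let f : (R ⧸ p) →ₗ[R] E := p.liftQ (LinearMap.toSpanSingleton R E x) hker.le
  have hf : Function.Injective f := LinearMap.ker_eq_bot.1 (Submodule.ker_liftQ_eq_bot' _ _ hker)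
  refine ⟨p, hpi, f, ⟨⟨hf, fun N hN => ?_⟩, inferInstance⟩⟩
  refine inf_ne_bot_of_indecomposable hE hN fun h => ?_
  have hf1 : f 1 ≠ 0 := fun h1 => by
    have := hpi.ne_top
    apply this
    rw [Ideal.eq_top_iff_one, ← Ideal.Quotient.eq_zero_iff_mem, map_one]
    exact hf (h1.trans (map_zero f).symm)
  exact hf1 ((Submodule.mem_bot R).1 (h ▸ LinearMap.mem_range_self f 1))

section Localization

variable (S : Submonoid R) {M : Type u} [AddCommGroup M] [Module R M]

/-- Over a Noetherian ring an element with nonzero image in a localization has, after clearing by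
an element of the monoid, a multiple in any essential submodule with nonzero image. -/
theorem exists_smul_mem_ne_zero_localized [IsNoetherianRing R] (N : Submodule R M)
    (hN : ∀ x : M, x ≠ 0 → ∃ r : R, r • x ∈ N ∧ r • x ≠ 0) (x : M)
    (hx : LocalizedModule.mkLinearMap S M x ≠ 0) :
    ∃ a : R, a • x ∈ N ∧ LocalizedModule.mkLinearMap S M (a • x) ≠ 0 := by
  classical
  have hzero : ∀ y : M, LocalizedModule.mkLinearMap S M y = 0 ↔ ∃ s : S, (s : R) • y = 0 :=
    fun y => by
      rw [IsLocalizedModule.eq_zero_iff S (LocalizedModule.mkLinearMap S M)]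
      rfl
  obtain ⟨_, ⟨t, rfl⟩, hmax⟩ := set_has_maximal_iff_noetherian.2 inferInstance
    (Set.range fun t : S => LinearMap.ker (LinearMap.toSpanSingleton R M ((t : R) • x)))
    ⟨_, 1, rfl⟩
  by_contra hcon
  push Not at hcon
  obtain ⟨G, hG⟩ := (isNoetherianRing_iff_ideal_fg R).1 inferInstance
    (N.comap (LinearMap.toSpanSingleton R M ((t : R) • x)))
  have hGk : ∀ a ∈ G, ∃ s : S, (s : R) • a • (t : R) • x = 0 := by
    intro a ha
    have : a • (t : R) • x ∈ N := hG.le (Ideal.subset_span ha)
    rw [smul_smul] at this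
    have h0 := hcon _ this
    rw [mul_smul] at h0
    exact (hzero _).1 h0
  choose s hs using fun a : G => hGk a.1 a.2
  let σ : S := ∏ a : G, s a
  have hkill : ∀ a : R, a • (t : R) • x ∈ N → (σ : R) • a • (t : R) • x = 0 := by
    intro a ha
    have : a ∈ Ideal.span (G : Set R) := hG.symm ▸ ha
    induction this using Submodule.span_induction with
    | mem b hb =>
      have hd : s ⟨b, hb⟩ ∣ σ := Finset.dvd_prod_of_mem _ (Finset.mem_univ _)
      obtain ⟨c, hc⟩ := hd
      rw [hc, Submonoid.coe_mul, mul_comm, mul_smul, hs ⟨b, hb⟩, smul_zero]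
    | zero => simp
    | add b c hb' hc' hb hc =>
      have key : ∀ b : R, b ∈ Ideal.span (G : Set R) → b • (t : R) • x ∈ N := fun b hb => hG.le hb
      rw [add_smul, smul_add, hb (key b hb'), hc (key c hc'), add_zero]
    | smul c b hb' hb =>
      have key : b • (t : R) • x ∈ N := hG.le hb'
      rw [smul_eq_mul, mul_smul, smul_comm, hb key, smul_zero]
  have hne : ((σ * t : S) : R) • x ≠ 0 := fun h => hx ((hzero x).2 ⟨σ * t, h⟩)
  obtain ⟨r, hr, hr0⟩ := hN _ hne
  rw [Submonoid.coe_mul, mul_smul, smul_smul] at hr hr0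
  have h1 := hkill _ hr
  have heq : LinearMap.ker (LinearMap.toSpanSingleton R M (((σ * σ * t : S) : R) • x)) =
      LinearMap.ker (LinearMap.toSpanSingleton R M ((t : R) • x)) := by
    refine (eq_of_le_of_not_lt ?_ (hmax _ ⟨σ * σ * t, rfl⟩)).symm
    intro b hb
    simp only [LinearMap.mem_ker, LinearMap.toSpanSingleton_apply] at hb ⊢
    rw [Submonoid.coe_mul, mul_smul, smul_comm, hb, smul_zero]
  have h2 : r ∈ LinearMap.ker (LinearMap.toSpanSingleton R M (((σ * σ * t : S) : R) • x)) := by
    simp only [LinearMap.mem_ker, LinearMap.toSpanSingleton_apply, Submonoid.coe_mul]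
    rw [smul_smul] at h1 ⊢
    rw [smul_smul] at h1
    rw [← h1]
    congr 1
    ring
  rw [heq, LinearMap.mem_ker, LinearMap.toSpanSingleton_apply] at h2
  exact hr0 (by rw [mul_comm, mul_smul, h2, smul_zero])

theorem localized_inf_ne_bot [IsNoetherianRing R] (N : Submodule R M)
    (hN : ∀ x : M, x ≠ 0 → ∃ r : R, r • x ∈ N ∧ r • x ≠ 0)
    (L : Submodule (Localization S) (LocalizedModule S M)) (hL : L ≠ ⊥) :
    L ⊓ Submodule.localized S N ≠ ⊥ := by
  obtain ⟨z, hz, hz0⟩ := Submodule.exists_mem_ne_zero_of_ne_bot hL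
  obtain ⟨⟨x, s⟩, rfl⟩ : ∃ p : M × S, LocalizedModule.mk p.1 p.2 = z := by
    induction z using LocalizedModule.induction_on with
    | h m s => exact ⟨(m, s), rfl⟩
  have hz' : LocalizedModule.mkLinearMap S M x = (s : R) • LocalizedModule.mk x s := by
    rw [LocalizedModule.mkLinearMap_apply, LocalizedModule.smul'_mk]
    exact (LocalizedModule.mk_cancel s x).symm
  have hxL : LocalizedModule.mkLinearMap S M x ∈ L := hz' ▸ L.smul_of_tower_mem (s : R) hz
  have hx0 : LocalizedModule.mkLinearMap S M x ≠ 0 := fun h => hz0 (by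
    have hsc : (s : R) • LocalizedModule.mk x s = (s : R) • (0 : LocalizedModule S M) := by
      rw [← hz', h, smul_zero]
    exact IsLocalizedModule.smul_injective (LocalizedModule.mkLinearMap S M) s hsc)
  obtain ⟨a, haN, ha0⟩ := exists_smul_mem_ne_zero_localized S N hN x hx0
  intro hbot
  refine ha0 ((Submodule.mem_bot (Localization S)).1 (hbot ▸ ⟨?_, ?_⟩))
  · rw [map_smul]
    exact L.smul_of_tower_mem a hxL
  · exact ⟨a • x, haN, 1, by simp⟩

theorem localizedModule_mk_surjective_of_injective [IsNoetherianRing R] [Module.Injective R M] :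
    Function.Surjective (LocalizedModule.mkLinearMap S M) := by
  intro z
  induction z using LocalizedModule.induction_on with
  | h y s =>
    obtain ⟨n₀, hn₀⟩ := monotone_stabilizes_iff_noetherian.2 (inferInstance : IsNoetherian R R)
      ⟨fun n => LinearMap.ker (LinearMap.toSpanSingleton R R ((s : R) ^ n)),
        monotone_nat_of_le_succ fun n b hb => by
          simp only [LinearMap.mem_ker, LinearMap.toSpanSingleton_apply, smul_eq_mul] at hb ⊢
          rw [pow_succ, ← mul_assoc, hb, zero_mul]⟩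
    let φ := LinearMap.toSpanSingleton R R ((s : R) ^ (n₀ + 1))
    have hk : LinearMap.ker φ ≤ LinearMap.ker (LinearMap.toSpanSingleton R M (((s : R) ^ n₀) • y)) := by
      intro b hb
      have : b ∈ LinearMap.ker (LinearMap.toSpanSingleton R R ((s : R) ^ n₀)) := by
        have h := hn₀ (n₀ + 1) (Nat.le_succ _)
        exact h.ge hb
      simp only [LinearMap.mem_ker, LinearMap.toSpanSingleton_apply, smul_eq_mul] at this ⊢
      rw [smul_smul, this, zero_smul]
    obtain ⟨h, hh⟩ := Module.Injective.out (R := R) ((LinearMap.ker φ).liftQ φ le_rfl)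
      (LinearMap.ker_eq_bot.1 (Submodule.ker_liftQ_eq_bot' _ _ rfl))
      ((LinearMap.ker φ).liftQ _ hk)
    refine ⟨h 1, ?_⟩
    have h1 := hh (Submodule.Quotient.mk 1)
    simp only [φ, Submodule.liftQ_apply, LinearMap.toSpanSingleton_apply, one_smul] at h1
    rw [← mul_one ((s : R) ^ (n₀ + 1)), ← smul_eq_mul, map_smul] at h1
    rw [LocalizedModule.mkLinearMap_apply, LocalizedModule.mk_eq]
    refine ⟨⟨(s : R) ^ n₀, S.pow_mem s.2 n₀⟩, ?_⟩
    simp only [Submonoid.smul_def, one_smul]
    rw [smul_smul, ← pow_succ, h1]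

end Localization

end Groth.Agent.InjHull
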