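import Mathlib
import Groth.Prelude.Def_Wider
import Groth.Agent.InjHull.Noetherian

/-!
Matlis duality with respect to the injective hull of a residue field.
-/

namespace Groth.Agent.InjHull

universe u v

variable {R : Type u} [CommRing R]

/-- Finite modules killed by a power of a maximal ideal have finite length. -/
theorem isFiniteLength_of_pow_smul_eq_zero [IsNoetherianRing R] (m : Ideal R) [m.IsMaximal]
    (k : ℕ) : ∀ (M : Type v) [AddCommGroup M] [Module R M], Module.Finite R M →
      (∀ a ∈ m ^ k, ∀ x : M, a • x = 0) → IsFiniteLength R M := by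
  induction k with
  | zero =>
    intro M _ _ _ h
    have : Subsingleton M :=
      subsingleton_of_forall_eq 0 fun x => by simpa using h 1 (by simp) x
    exact .of_subsingleton
  | succ k ih =>
    intro M _ _ hfin h
    let N : Submodule R M := m • ⊤
    have hN : IsFiniteLength R N := by
      refine ih N inferInstance fun a ha => ?_
      rintro ⟨x, hx⟩
      refine Subtype.ext ?_
      show a • x = 0
      refine Submodule.smul_induction_on hx (fun b hb y _ => ?_)
        (fun y z hy hz => by rw [smul_add, hy, hz, add_zero])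
      rw [smul_smul]
      exact h _ (by rw [pow_succ]; exact Ideal.mul_mem_mul ha hb) y
    have hQ : Module.IsTorsionBySet R (M ⧸ N) (m : Set R) := by
      intro x a
      obtain ⟨y, rfl⟩ := N.mkQ_surjective x
      rw [← map_smul, Submodule.mkQ_apply, Submodule.Quotient.mk_eq_zero]
      exact Submodule.smul_mem_smul a.2 Submodule.mem_top
    let := Ideal.Quotient.field m
    let := hQ.module
    have hss' : IsSemisimpleModule (R ⧸ m) (M ⧸ N) := inferInstance
    have hss : IsSemisimpleModule R (M ⧸ N) := hQ.isSemisimpleModule_iff.1 hss'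
    have hart : IsArtinian R (M ⧸ N) :=
      ((IsSemisimpleModule.finite_tfae (R := R) (M := M ⧸ N)).out 0 2).1 (inferInstance : Module.Finite R (M ⧸ N))
    obtain ⟨_, _⟩ := isFiniteLength_iff_isNoetherian_isArtinian.1 hN
    exact isFiniteLength_iff_isNoetherian_isArtinian.2 ⟨inferInstance,
      isArtinian_of_range_eq_ker N.subtype N.mkQ (by simp)⟩

section

variable {m : Ideal R} [m.IsMaximal] {E : Type u} [AddCommGroup E] [Module R E]
  {f : (R ⧸ m) →ₗ[R] E} (hf : _root_.InjHull.IsInjectiveHull f)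

theorem smul_quotient_eq_zero {a : R} (ha : a ∈ m) (z : R ⧸ m) : a • z = 0 := by
  obtain ⟨z, rfl⟩ := Ideal.Quotient.mk_surjective z
  exact Ideal.Quotient.eq_zero_iff_mem.2 (Ideal.mul_mem_right z m ha)

include hf in
theorem mem_range_of_smul_eq_zero {y : E} (hy : ∀ a ∈ m, a • y = 0) : y ∈ LinearMap.range f := by
  by_cases h0 : y = 0
  · rw [h0]
    exact zero_mem _
  obtain ⟨r, a, ha, ha0⟩ := exists_smul_eq_of_isEssentialInj hf.toIsEssentialInj h0
  have hr : r ∉ m := fun hr => ha0 (hf.injective (by rw [ha, hy r hr, map_zero]))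
  obtain ⟨s, i, hi, hs⟩ := Ideal.IsMaximal.exists_inv ‹_› hr
  refine ⟨s • a, ?_⟩
  rw [map_smul, ha, smul_smul]
  conv_rhs => rw [← one_smul R y, ← hs, add_smul, hy i hi, add_zero]

include hf in
theorem length_quotient_linearMap :
    Module.length R ((R ⧸ m) →ₗ[R] E) = Module.length R (R ⧸ m) := by
  have hker : m ≤ LinearMap.ker (LinearMap.toSpanSingleton R ((R ⧸ m) →ₗ[R] E) f) :=
    fun a ha => LinearMap.ext fun z => by
      show a • f z = 0
      rw [← map_smul, smul_quotient_eq_zero ha, map_zero]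
  let Φ := m.liftQ (LinearMap.toSpanSingleton R ((R ⧸ m) →ₗ[R] E) f) hker
  have hΦ : ∀ a b : R, Φ (Ideal.Quotient.mk m a) (Ideal.Quotient.mk m b)
      = f (Ideal.Quotient.mk m (a * b)) := fun a b => (f.map_smul a _).symm
  refine (LinearEquiv.length_eq (LinearEquiv.ofBijective Φ ⟨?_, ?_⟩)).symm
  · refine (injective_iff_map_eq_zero Φ).2 fun z hz => ?_
    obtain ⟨a, rfl⟩ := Ideal.Quotient.mk_surjective z
    have h1 := hΦ a 1
    rw [hz, mul_one, LinearMap.zero_apply] at h1
    exact hf.injective (h1.symm.trans (map_zero f).symm)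
  · intro h
    obtain ⟨z, hz⟩ := mem_range_of_smul_eq_zero hf (y := h (Ideal.Quotient.mk m 1))
      fun a ha => by rw [← h.map_smul, smul_quotient_eq_zero ha, map_zero]
    obtain ⟨a, rfl⟩ := Ideal.Quotient.mk_surjective z
    refine ⟨Ideal.Quotient.mk m a, LinearMap.ext fun w => ?_⟩
    obtain ⟨b, rfl⟩ := Ideal.Quotient.mk_surjective w
    have e : ∀ c d : R, c • (Ideal.Quotient.mk m d : R ⧸ m) = Ideal.Quotient.mk m (c * d) :=
      fun c d => rfl
    rw [hΦ, mul_comm, ← e, map_smul, hz, ← map_smul, e, mul_one]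

include hf in
/-- Duality with respect to the hull preserves the length of torsion modules of finite length. -/
theorem length_dual {M : Type u} [AddCommGroup M] [Module R M] (hM : IsFiniteLength R M)
    (ht : _root_.LocCoh.IsPowerTorsion m M) :
    Module.length R (M →ₗ[R] E) = Module.length R M := by
  induction hM with
  | of_subsingleton => simp [Module.length_eq_zero]
  | @of_simple_quotient M _ _ N _ _ ih =>
    have hinj := hf.isInjective
    let g₁ : ((M ⧸ N) →ₗ[R] E) →ₗ[R] (M →ₗ[R] E) := LinearMap.lcomp R E N.mkQ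
    let g₂ : (M →ₗ[R] E) →ₗ[R] (N →ₗ[R] E) := LinearMap.lcomp R E N.subtype
    have h1 : Function.Injective g₁ := fun a b hab => by
      refine LinearMap.ext fun x => ?_
      obtain ⟨y, rfl⟩ := N.mkQ_surjective x
      exact LinearMap.congr_fun hab y
    have h2 : Function.Surjective g₂ := fun a => by
      obtain ⟨h, hh⟩ := Module.Injective.out (R := R) N.subtype N.injective_subtype a
      exact ⟨h, LinearMap.ext hh⟩
    have h3 : Function.Exact g₁ g₂ := fun h => by
      constructor
      · intro hh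
        exact ⟨N.liftQ h fun x hx => LinearMap.congr_fun hh ⟨x, hx⟩, LinearMap.ext fun x => rfl⟩
      · rintro ⟨h', rfl⟩
        refine LinearMap.ext fun x => ?_
        show h' (N.mkQ x) = 0
        rw [Submodule.mkQ_apply, (Submodule.Quotient.mk_eq_zero N).2 x.2, map_zero]
    rw [Module.length_eq_add_of_exact g₁ g₂ h1 h2 h3,
      Module.length_eq_add_of_exact N.subtype N.mkQ N.injective_subtype N.mkQ_surjective
        (LinearMap.exact_subtype_mkQ N)]
    have htN : _root_.LocCoh.IsPowerTorsion m N := fun x => by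
      obtain ⟨k, hk⟩ := ht x
      exact ⟨k, fun a ha => Subtype.ext (hk a ha)⟩
    rw [ih htN, add_comm]
    congr 1
    obtain ⟨n, hn, ⟨e⟩⟩ := isSimpleModule_iff_quot_maximal.1 (inferInstance : IsSimpleModule R (M ⧸ N))
    obtain ⟨y, hy⟩ := N.mkQ_surjective (e.symm 1)
    obtain ⟨k, hk⟩ := ht y
    have hmn : m = n := by
      refine ‹m.IsMaximal›.eq_of_le hn.ne_top fun a ha => ?_
      refine hn.isPrime.mem_of_pow_mem k ?_
      have h0 : (a ^ k) • e.symm 1 = 0 := by
        rw [← hy, ← map_smul, hk _ (Ideal.pow_mem_pow ha k), map_zero]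
      have h1 : (a ^ k) • (1 : R ⧸ n) = 0 := by
        rw [← e.apply_symm_apply 1, ← map_smul, h0, map_zero]
      exact Ideal.Quotient.eq_zero_iff_mem.1 (by simpa [Algebra.smul_def] using h1)
    subst hmn
    have e' : ((M ⧸ N) →ₗ[R] E) ≃ₗ[R] ((R ⧸ m) →ₗ[R] E) := LinearEquiv.congrLeft E R e
    rw [e'.length_eq, e.length_eq, length_quotient_linearMap hf]

include hf in
theorem exists_dual_apply_ne_zero {M : Type u} [AddCommGroup M] [Module R M] {x : M}
    (hx : ∀ a : R, a • x = 0 → a ∈ m) : ∃ h : M →ₗ[R] E, h x ≠ 0 := by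
  have hinj := hf.isInjective
  let φ := LinearMap.toSpanSingleton R M x
  have hle : LinearMap.ker φ ≤ LinearMap.ker (f ∘ₗ Submodule.mkQ m) := fun a ha => by
    rw [LinearMap.mem_ker, LinearMap.comp_apply, Submodule.mkQ_apply,
      (Submodule.Quotient.mk_eq_zero m).2 (hx a ha), map_zero]
  obtain ⟨h, hh⟩ := Module.Injective.out (R := R) ((LinearMap.ker φ).liftQ φ le_rfl)
    (LinearMap.ker_eq_bot.1 (Submodule.ker_liftQ_eq_bot' _ _ rfl))
    ((LinearMap.ker φ).liftQ _ hle)
  refine ⟨h, fun h0 => ?_⟩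
  have h1 := hh (Submodule.Quotient.mk 1)
  simp only [φ, Submodule.liftQ_apply, LinearMap.toSpanSingleton_apply, one_smul,
    LinearMap.comp_apply, Submodule.mkQ_apply, h0] at h1
  have h2 : (Submodule.Quotient.mk 1 : R ⧸ m) = 0 := hf.injective (h1.symm.trans (map_zero f).symm)
  exact ‹m.IsMaximal›.ne_top ((Ideal.eq_top_iff_one m).2 ((Submodule.Quotient.mk_eq_zero m).1 h2))

theorem mem_of_smul_eq_zero_of_torsion {M : Type v} [AddCommGroup M] [Module R M]
    (ht : _root_.LocCoh.IsPowerTorsion m M) {x : M} (hx : x ≠ 0) (a : R) (ha : a • x = 0) :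
    a ∈ m := by
  by_contra ham
  obtain ⟨k, hk⟩ := ht x
  have htop : Ideal.span {a} ⊔ m = ⊤ :=
    Ideal.IsMaximal.out.2 _ (lt_of_le_not_ge le_sup_right fun h =>
      ham (h (Ideal.mem_sup_left (Ideal.mem_span_singleton_self a))))
  have h1 : Ideal.span {a} ⊔ m ^ k = ⊤ := Ideal.sup_pow_eq_top htop
  obtain ⟨b, hb, c, hc, hbc⟩ := Submodule.mem_sup.1 (h1 ▸ Submodule.mem_top : (1 : R) ∈ _)
  obtain ⟨b, rfl⟩ := Ideal.mem_span_singleton'.1 hb
  refine hx ?_
  rw [← one_smul R x, ← hbc, add_smul, mul_smul, ha, smul_zero, hk c hc, add_zero]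

include hf in
theorem apply_injective_of_torsion {M : Type u} [AddCommGroup M] [Module R M]
    (ht : _root_.LocCoh.IsPowerTorsion m M) :
    Function.Injective (LinearMap.applyₗ : M →ₗ[R] (M →ₗ[R] E) →ₗ[R] E) := by
  refine (injective_iff_map_eq_zero (LinearMap.applyₗ : M →ₗ[R] (M →ₗ[R] E) →ₗ[R] E)).2
    fun x hx => ?_
  by_contra h0
  obtain ⟨h, hh⟩ := exists_dual_apply_ne_zero hf (mem_of_smul_eq_zero_of_torsion ht h0)
  exact hh (LinearMap.congr_fun hx h)

theorem exists_pow_smul_eq_zero {M : Type v} [AddCommGroup M] [Module R M] [Module.Finite R M]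
    (ht : _root_.LocCoh.IsPowerTorsion m M) : ∃ k, ∀ a ∈ m ^ k, ∀ x : M, a • x = 0 := by
  obtain ⟨s, hs⟩ := Module.Finite.fg_top (R := R) (M := M)
  choose N hN using fun x : M => ht x
  refine ⟨s.sup N, fun a ha x => ?_⟩
  have hx : x ∈ Submodule.span R (s : Set M) := hs ▸ Submodule.mem_top
  induction hx using Submodule.span_induction with
  | mem y hy => exact hN y a (Ideal.pow_le_pow_right (Finset.le_sup (f := N) hy) ha)
  | zero => simp
  | add y z _ _ hy hz => rw [smul_add, hy, hz, add_zero]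
  | smul t y _ hy => rw [smul_comm, hy, smul_zero]

include hf in
theorem apply_bijective_of_finiteLength {M : Type u} [AddCommGroup M] [Module R M]
    (hM : IsFiniteLength R M) (ht : _root_.LocCoh.IsPowerTorsion m M) :
    Function.Bijective (LinearMap.applyₗ : M →ₗ[R] (M →ₗ[R] E) →ₗ[R] E) := by
  have hi := apply_injective_of_torsion hf ht
  obtain ⟨_, _⟩ := isFiniteLength_iff_isNoetherian_isArtinian.1 hM
  obtain ⟨k, hk⟩ := exists_pow_smul_eq_zero ht
  have hl := length_dual hf hM ht
  have hM' : IsFiniteLength R (M →ₗ[R] E) :=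
    Module.length_ne_top_iff.1 (by rw [hl]; exact Module.length_ne_top)
  have ht' : _root_.LocCoh.IsPowerTorsion m (M →ₗ[R] E) := fun h =>
    ⟨k, fun a ha => LinearMap.ext fun x => by
      show a • h x = 0
      rw [← map_smul, hk a ha, map_zero]⟩
  have hl' := length_dual hf hM' ht'
  refine ⟨hi, ?_⟩
  rw [← LinearMap.range_eq_top]
  by_contra hne
  have hM'' : IsFiniteLength R ((M →ₗ[R] E) →ₗ[R] E) :=
    Module.length_ne_top_iff.1 (by rw [hl', hl]; exact Module.length_ne_top)
  obtain ⟨_, _⟩ := isFiniteLength_iff_isNoetherian_isArtinian.1 hM''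
  have h1 := Submodule.length_lt hne
  rw [← (LinearEquiv.ofInjective _ hi).length_eq, hl', hl] at h1
  exact lt_irrefl _ h1

include hf in
/-- The hull of a residue field is power torsion. -/
theorem isPowerTorsion_hull [IsNoetherianRing R] : _root_.LocCoh.IsPowerTorsion m E := by
  intro x
  have key : ∀ s ∈ m, ∃ n : ℕ, s ^ n • x = 0 := by
    intro s hs
    obtain ⟨n, hn⟩ := monotone_stabilizes_iff_noetherian.2 (inferInstance : IsNoetherian R R)
      ⟨fun n => LinearMap.ker (LinearMap.toSpanSingleton R E (s ^ n • x)),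
        monotone_nat_of_le_succ fun n b hb => by
          simp only [LinearMap.mem_ker, LinearMap.toSpanSingleton_apply] at hb ⊢
          rw [pow_succ', mul_smul, smul_comm, hb, smul_zero]⟩
    refine ⟨n, ?_⟩
    by_contra h0
    obtain ⟨r, a, ha, ha0⟩ := exists_smul_eq_of_isEssentialInj hf.toIsEssentialInj h0
    have h1 : r ∈ LinearMap.ker (LinearMap.toSpanSingleton R E (s ^ (n + 1) • x)) := by
      rw [LinearMap.mem_ker, LinearMap.toSpanSingleton_apply, pow_succ', mul_smul, smul_comm r,
        ← ha, ← map_smul, smul_quotient_eq_zero hs, map_zero]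
    have h2 : r ∈ LinearMap.ker (LinearMap.toSpanSingleton R E (s ^ n • x)) :=
      (hn (n + 1) (Nat.le_succ n)).ge h1
    rw [LinearMap.mem_ker, LinearMap.toSpanSingleton_apply, ← ha] at h2
    exact ha0 (hf.injective (h2.trans (map_zero f).symm))
  have hle : m ≤ Ideal.radical (LinearMap.ker (LinearMap.toSpanSingleton R E x)) := fun s hs => by
    obtain ⟨n, hn⟩ := key s hs
    exact ⟨n, hn⟩
  obtain ⟨k, hk⟩ := Ideal.exists_pow_le_of_le_radical_of_fg hle
    ((isNoetherianRing_iff_ideal_fg R).1 inferInstance m)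
  exact ⟨k, fun a ha => hk ha⟩

include hf in
/-- Partial maps of the part killed by `m ^ k` into the hull are multiplications. -/
theorem exists_smul_of_linearMap [IsNoetherianRing R] (k : ℕ) (P : Submodule R E)
    (hP : ∀ a ∈ m ^ k, ∀ y ∈ P, a • y = 0) (ψ : P →ₗ[R] E) :
    ∃ r : R, ∀ y : P, ψ y = r • (y : E) := by
  have hinj := hf.isInjective
  obtain ⟨Φ, hΦ⟩ := Module.Injective.out (R := R) P.subtype P.injective_subtype ψ
  have hfl : IsFiniteLength R (R ⧸ m ^ k) := by
    refine isFiniteLength_of_pow_smul_eq_zero m k (R ⧸ m ^ k) inferInstance fun a ha x => ?_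
    obtain ⟨x, rfl⟩ := Ideal.Quotient.mk_surjective x
    exact Ideal.Quotient.eq_zero_iff_mem.2 (Ideal.mul_mem_right x _ ha)
  have ht : _root_.LocCoh.IsPowerTorsion m (R ⧸ m ^ k) := fun x => ⟨k, fun a ha => by
    obtain ⟨x, rfl⟩ := Ideal.Quotient.mk_surjective x
    exact Ideal.Quotient.eq_zero_iff_mem.2 (Ideal.mul_mem_right x _ ha)⟩
  let μ : ((R ⧸ m ^ k) →ₗ[R] E) →ₗ[R] E := Φ ∘ₗ LinearMap.applyₗ (Ideal.Quotient.mk (m ^ k) 1)
  obtain ⟨z, hz⟩ := (apply_bijective_of_finiteLength hf hfl ht).2 μ
  obtain ⟨r, rfl⟩ := Ideal.Quotient.mk_surjective z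
  refine ⟨r, fun y => ?_⟩
  let h : (R ⧸ m ^ k) →ₗ[R] E :=
    (m ^ k).liftQ (LinearMap.toSpanSingleton R E (y : E)) fun a ha => hP a ha y.1 y.2
  have h1 : h (Ideal.Quotient.mk (m ^ k) r) = Φ (h (Ideal.Quotient.mk (m ^ k) 1)) :=
    LinearMap.congr_fun hz h
  change r • (y : E) = Φ ((1 : R) • (y : E)) at h1
  rw [one_smul] at h1
  rw [h1]
  exact (hΦ y).symm

include hf in
/-- The part killed by `m ^ k` has annihilator `m ^ k`. -/
theorem mem_pow_of_forall_smul_eq_zero (k : ℕ) {r : R}
    (hr : ∀ y : E, (∀ a ∈ m ^ k, a • y = 0) → r • y = 0) : r ∈ m ^ k := by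
  have hk : ∀ a ∈ m ^ k, ∀ x : R ⧸ m ^ k, a • x = 0 := fun a ha x => by
    obtain ⟨x, rfl⟩ := Ideal.Quotient.mk_surjective x
    exact Ideal.Quotient.eq_zero_iff_mem.2 (Ideal.mul_mem_right x _ ha)
  have ht : _root_.LocCoh.IsPowerTorsion m (R ⧸ m ^ k) := fun x => ⟨k, fun a ha => hk a ha x⟩
  rw [← Ideal.Quotient.eq_zero_iff_mem]
  refine apply_injective_of_torsion hf ht ?_
  rw [map_zero]
  refine LinearMap.ext fun h => ?_
  show h (Ideal.Quotient.mk (m ^ k) r) = 0
  have e : (Ideal.Quotient.mk (m ^ k) r : R ⧸ m ^ k) = r • Ideal.Quotient.mk (m ^ k) 1 := by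
    conv_lhs => rw [← mul_one r]
    rfl
  rw [e, map_smul]
  exact hr _ fun a ha => by rw [← map_smul, hk a ha, map_zero]

include hf in
theorem isArtinian_hull [IsNoetherianRing R] : IsArtinian R E := by
  rw [← monotone_stabilizes_iff_artinian]
  intro N
  let a : ℕ → ℕ → Ideal R := fun j k =>
    { carrier := {r | ∀ y ∈ (OrderDual.ofDual (N j) : Submodule R E),
        (∀ b ∈ m ^ k, b • y = 0) → r • y = 0}
      add_mem' := fun {r s} hr hs y hy hk => by rw [add_smul, hr y hy hk, hs y hy hk, add_zero]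
      zero_mem' := fun y _ _ => zero_smul R y
      smul_mem' := fun c r hr y hy hk => by rw [smul_eq_mul, mul_smul, hr y hy hk, smul_zero] }
  have hanti : ∀ i j, i ≤ j →
      (OrderDual.ofDual (N j) : Submodule R E) ≤ OrderDual.ofDual (N i) :=
    fun i j hij => N.monotone hij
  have hmul : ∀ j k i, ∀ x ∈ m ^ i, ∀ r ∈ a j k, x * r ∈ a j (k + i) := by
    intro j k i x hx r hr y hy hk
    rw [mul_comm, mul_smul]
    refine hr _ (Submodule.smul_mem _ x hy) fun b hb => ?_
    rw [smul_smul]
    exact hk _ (by rw [pow_add]; exact Ideal.mul_mem_mul hb hx)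
  let A : ℕ → Ideal (reesAlgebra m) := fun j =>
    { carrier := {p | ∀ k, (p : Polynomial R).coeff k ∈ a j (k + 1)}
      add_mem' := fun {p q} hp hq k => by
        rw [AddMemClass.coe_add, Polynomial.coeff_add]
        exact add_mem (hp k) (hq k)
      zero_mem' := fun k => by simp
      smul_mem' := fun c p hp k => by
        rw [smul_eq_mul, MulMemClass.coe_mul, Polynomial.coeff_mul]
        refine sum_mem fun il hil => ?_
        obtain rfl := Finset.HasAntidiagonal.mem_antidiagonal.1 hil
        rw [show il.1 + il.2 + 1 = il.2 + 1 + il.1 by ring]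
        exact hmul j (il.2 + 1) il.1 _ ((mem_reesAlgebra_iff m _).1 c.2 il.1) _ (hp il.2) }
  obtain ⟨j₀, hj₀⟩ := monotone_stabilizes_iff_noetherian.2
    (inferInstance : IsNoetherian (reesAlgebra m) (reesAlgebra m))
    ⟨A, fun i j hij p hp k y hy hk => hp k y (hanti i j hij hy) hk⟩
  refine ⟨j₀, fun j hj => ?_⟩
  have key : ∀ k, ∀ y ∈ (OrderDual.ofDual (N j₀) : Submodule R E),
      (∀ b ∈ m ^ k, b • y = 0) → y ∈ (OrderDual.ofDual (N j) : Submodule R E) := by
    intro k
    induction k with
    | zero =>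
      intro y _ hk
      have : y = 0 := by simpa using hk 1 (by simp)
      rw [this]
      exact zero_mem _
    | succ k ih =>
      intro y hy hk
      by_contra hyj
      let P : Submodule R E := Submodule.torsionBySet R E ((m ^ (k + 1) : Ideal R) : Set R)
      have hP : ∀ b ∈ m ^ (k + 1), ∀ z ∈ P, b • z = 0 := fun b hb z hz => (Submodule.mem_torsionBySet_iff _ _).1 hz ⟨b, hb⟩
      have hmemP : ∀ z : E, (∀ b ∈ m ^ (k + 1), b • z = 0) → z ∈ P := fun z hz => (Submodule.mem_torsionBySet_iff _ _).2 fun b => hz b b.2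
      let Q : Submodule R E := (OrderDual.ofDual (N j) : Submodule R E) ⊓ P
      have hyQ : Q.mkQ y ≠ 0 := fun h => by
        rw [Submodule.mkQ_apply, Submodule.Quotient.mk_eq_zero] at h
        exact hyj h.1
      obtain ⟨h, hh⟩ := exists_dual_apply_ne_zero hf (x := Q.mkQ y) fun b hb => by
        refine mem_of_smul_eq_zero_of_torsion (M := E ⧸ Q) (fun z => ?_) hyQ b hb
        obtain ⟨z, rfl⟩ := Q.mkQ_surjective z
        obtain ⟨n, hn⟩ := isPowerTorsion_hull hf z
        exact ⟨n, fun c hc => by rw [← map_smul, hn c hc, map_zero]⟩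
      obtain ⟨r, hr⟩ := exists_smul_of_linearMap hf (k + 1) P hP ((h ∘ₗ Q.mkQ) ∘ₗ P.subtype)
      have hr' : ∀ z, (∀ b ∈ m ^ (k + 1), b • z = 0) → r • z = h (Q.mkQ z) :=
        fun z hz => (hr ⟨z, hmemP z hz⟩).symm
      have hrj : r ∈ a j (k + 1) := fun z hz hzk => by
        rw [hr' z hzk, Submodule.mkQ_apply,
          (Submodule.Quotient.mk_eq_zero Q).2 ⟨hz, hmemP z hzk⟩, map_zero]
      let W₁ : Submodule R E := (OrderDual.ofDual (N j₀) : Submodule R E) ⊓ P
      let W₂ : Submodule R E := Submodule.torsionBySet R E ((m ^ k : Ideal R) : Set R)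
      have hW₂P : W₂ ≤ P := fun z hz => (Submodule.mem_torsionBySet_iff _ _).2 fun b =>
        (Submodule.mem_torsionBySet_iff _ _).1 hz ⟨b, Ideal.pow_le_pow_right (Nat.le_succ k) b.2⟩
      let ρ : W₁ × W₂ →ₗ[R] ↥(W₁ ⊔ W₂) :=
        ((W₁.subtype.coprod W₂.subtype).codRestrict (W₁ ⊔ W₂) fun p =>
          Submodule.add_mem_sup p.1.2 p.2.2)
      have hρ : Function.Surjective ρ := by
        rintro ⟨z, hz⟩
        obtain ⟨u, hu, w, hw, rfl⟩ := Submodule.mem_sup.1 hz
        exact ⟨(⟨u, hu⟩, ⟨w, hw⟩), Subtype.ext rfl⟩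
      let θ : W₁ × W₂ →ₗ[R] E := r • (W₁.subtype ∘ₗ LinearMap.fst R W₁ W₂)
      have hker : LinearMap.ker ρ ≤ LinearMap.ker θ := by
        rintro ⟨⟨u, hu⟩, ⟨w, hw⟩⟩ huw
        have e : u + w = 0 := congrArg Subtype.val huw
        have hwk : ∀ b ∈ m ^ k, b • w = 0 := fun b hb =>
          (Submodule.mem_torsionBySet_iff _ _).1 hw ⟨b, hb⟩
        have huk : ∀ b ∈ m ^ k, b • u = 0 := fun b hb => by
          rw [eq_neg_of_add_eq_zero_left e, smul_neg, hwk b hb, neg_zero]
        show r • u = 0
        exact hrj u (ih u hu.1 huk) fun b hb => huk b (Ideal.pow_le_pow_right (Nat.le_succ k) hb)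
      obtain ⟨s, hs⟩ := exists_smul_of_linearMap hf (k + 1) (W₁ ⊔ W₂)
        (fun b hb z hz => hP b hb z ((sup_le inf_le_right hW₂P) hz))
        ((LinearMap.ker ρ).liftQ θ hker ∘ₗ
          (LinearMap.quotKerEquivOfSurjective ρ hρ).symm.toLinearMap)
      have hs' : ∀ p, θ p = s • (ρ p : E) := fun p => by
        rw [← hs (ρ p)]
        have : (LinearMap.quotKerEquivOfSurjective ρ hρ).symm (ρ p) = Submodule.Quotient.mk p := by
          rw [LinearEquiv.symm_apply_eq]
          rfl
        simp only [LinearMap.comp_apply, LinearEquiv.coe_coe, this, Submodule.liftQ_apply]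
      have hsk : s ∈ m ^ k := mem_pow_of_forall_smul_eq_zero hf k fun z hz => by
        have h1 := hs' (0, ⟨z, (Submodule.mem_torsionBySet_iff _ _).2 fun b => hz b b.2⟩)
        change r • (0 : E) = s • ((0 : E) + z) at h1
        simpa [θ, ρ] using h1.symm
      have hs1 : ∀ z ∈ W₁, s • z = r • z := fun z hz => by
        have h1 := hs' (⟨z, hz⟩, 0)
        change r • z = s • (z + (0 : E)) at h1
        simpa [θ, ρ] using h1.symm
      have hmono : ∀ i, ∀ p : reesAlgebra m, (p : Polynomial R) = Polynomial.monomial k s →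
          (p ∈ A i ↔ s ∈ a i (k + 1)) := by
        intro i p hp
        constructor
        · intro h
          have := h k
          rwa [hp, Polynomial.coeff_monomial, if_pos rfl] at this
        · intro h l
          rw [hp, Polynomial.coeff_monomial]
          split_ifs with hkl
          · subst hkl
            exact h
          · exact zero_mem _
      have hsj : s ∈ a j (k + 1) := fun z hz hzk => by
        rw [hs1 z ⟨hanti j₀ j hj hz, hmemP z hzk⟩]
        exact hrj z hz hzk
      let p : reesAlgebra m := ⟨Polynomial.monomial k s, reesAlgebra.monomial_mem.2 hsk⟩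
      have hp0 : p ∈ A j₀ := (hj₀ j hj).ge ((hmono j p rfl).2 hsj)
      have hsy : s • y = 0 := (hmono j₀ p rfl).1 hp0 y hy hk
      rw [hs1 y ⟨hy, hmemP y hk⟩, hr' y hk] at hsy
      exact hh hsy
  refine OrderDual.ofDual.injective (le_antisymm (fun z hz => ?_) (hanti j₀ j hj))
  obtain ⟨n, hn⟩ := isPowerTorsion_hull hf z
  exact key n z hz hn

include hf in
/-- A torsion module with finite socle embeds in a finite power of the hull. -/
theorem exists_embedding_of_socle {M : Type u} [AddCommGroup M] [Module R M]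
    (ht : _root_.LocCoh.IsPowerTorsion m M) (n : ℕ)
    (s : (_root_.LocCoh.torsionBy m M) →ₗ[R] (Fin n → E)) (hs : Function.Injective s) :
    ∃ g : M →ₗ[R] (Fin n → E), Function.Injective g := by
  have hinj := hf.isInjective
  obtain ⟨g, hg⟩ := Module.Injective.out (R := R) (_root_.LocCoh.torsionBy m M).subtype
    (Submodule.injective_subtype _) s
  refine ⟨g, (injective_iff_map_eq_zero g).2 fun x hx => ?_⟩
  obtain ⟨k, hk⟩ := ht x
  induction k generalizing x with
  | zero => simpa using hk 1 (by simp)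
  | succ k ih =>
    have hb : ∀ b ∈ m ^ k, b • x = 0 := by
      intro b hb
      have hbx : b • x ∈ _root_.LocCoh.torsionBy m M := by
        rw [Submodule.mem_torsionBySet_iff]
        intro c
        rw [smul_smul]
        exact hk _ (by rw [pow_succ']; exact Ideal.mul_mem_mul c.2 hb)
      have h1 : s ⟨b • x, hbx⟩ = 0 := by
        rw [← hg]
        show g (b • x) = 0
        rw [map_smul, hx, smul_zero]
      exact congrArg Subtype.val (hs (h1.trans (map_zero s).symm))
    exact ih x hx hb

include hf in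
/-- An injective map of a module killed by `m`, of known dimension, into a power of the hull. -/
theorem exists_socle_embedding {V : Type u} [AddCommGroup V] [Module R V] [Module (R ⧸ m) V]
    [IsScalarTower R (R ⧸ m) V] [Module.Finite (R ⧸ m) V] (n : ℕ)
    (hn : Module.finrank (R ⧸ m) V = n) :
    ∃ s : V →ₗ[R] (Fin n → E), Function.Injective s := by
  let := Ideal.Quotient.field m
  let b := Module.finBasisOfFinrankEq (R ⧸ m) V hn
  refine ⟨LinearMap.pi fun i => f ∘ₗ ((b.coord i).restrictScalars R),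
    (injective_iff_map_eq_zero (LinearMap.pi fun i => f ∘ₗ ((b.coord i).restrictScalars R))).2
      fun x hx => ?_⟩
  refine b.ext_elem fun i => ?_
  have h1 : f (b.coord i x) = 0 := congrFun hx i
  rw [map_zero, Finsupp.zero_apply]
  exact hf.injective (h1.trans (map_zero f).symm)

end

section Local

variable [IsLocalRing R]

/-- An Artinian module over a Noetherian local ring is power torsion. -/
theorem isPowerTorsion_of_isArtinian [IsNoetherianRing R] (M : Type u) [AddCommGroup M]
    [Module R M] [IsArtinian R M] :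
    _root_.LocCoh.IsPowerTorsion (IsLocalRing.maximalIdeal R) M := by
  intro x
  let m := IsLocalRing.maximalIdeal R
  obtain ⟨n, hn⟩ := monotone_stabilizes_iff_artinian.2 (inferInstance : IsArtinian R M)
    ⟨fun k => OrderDual.toDual (m ^ k • Submodule.span R {x}),
      fun i j hij => Submodule.smul_mono (Ideal.pow_le_pow_right hij) le_rfl⟩
  have hle : m ^ n • Submodule.span R {x} ≤ m • (m ^ n • Submodule.span R {x}) := by
    rw [← Submodule.mul_smul, ← pow_succ']
    exact le_of_eq (congrArg OrderDual.ofDual (hn (n + 1) (Nat.le_succ n)))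
  have h0 : m ^ n • Submodule.span R {x} = ⊥ :=
    Submodule.eq_bot_of_le_smul_of_le_jacobson_bot m _
      (Submodule.FG.smul ((isNoetherianRing_iff_ideal_fg R).1 inferInstance (m ^ n))
        (Submodule.fg_span_singleton x))
      hle (IsLocalRing.maximalIdeal_le_jacobson _)
  refine ⟨n, fun a ha => ?_⟩
  have : a • x ∈ m ^ n • Submodule.span R {x} :=
    Submodule.smul_mem_smul ha (Submodule.mem_span_singleton_self x)
  rw [h0] at this
  exact this

/-- The socle of an Artinian module is finite dimensional. -/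
theorem finite_socle_of_isArtinian (M : Type u) [AddCommGroup M] [Module R M] [IsArtinian R M] :
    Module.Finite (R ⧸ IsLocalRing.maximalIdeal R)
      ↥(_root_.LocCoh.torsionBy (IsLocalRing.maximalIdeal R) M) := by
  let := Ideal.Quotient.field (IsLocalRing.maximalIdeal R)
  have : IsArtinian (R ⧸ IsLocalRing.maximalIdeal R)
      ↥(_root_.LocCoh.torsionBy (IsLocalRing.maximalIdeal R) M) :=
    isArtinian_of_tower R inferInstance
  exact ((IsSemisimpleModule.finite_tfae (R := R ⧸ IsLocalRing.maximalIdeal R)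
    (M := ↥(_root_.LocCoh.torsionBy (IsLocalRing.maximalIdeal R) M))).out 2 0).1 this

theorem apply_injective_local {E : Type u} [AddCommGroup E] [Module R E]
    {f : (R ⧸ IsLocalRing.maximalIdeal R) →ₗ[R] E} (hf : _root_.InjHull.IsInjectiveHull f)
    {M : Type u} [AddCommGroup M] [Module R M] :
    Function.Injective (LinearMap.applyₗ : M →ₗ[R] (M →ₗ[R] E) →ₗ[R] E) := by
  refine (injective_iff_map_eq_zero (LinearMap.applyₗ : M →ₗ[R] (M →ₗ[R] E) →ₗ[R] E)).2
    fun x hx => ?_
  by_contra h0
  obtain ⟨h, hh⟩ := exists_dual_apply_ne_zero hf (x := x) fun a ha => by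
    by_contra ham
    obtain ⟨u, rfl⟩ := IsLocalRing.notMem_maximalIdeal.1 ham
    exact h0 (by rw [← one_smul R x, ← u.inv_mul, mul_smul, ha, smul_zero])
  exact hh (LinearMap.congr_fun hx h)

end Local

end Groth.Agent.InjHull
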