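import Mathlib
import Groth.Prelude.Def_Wider
import Groth.Agent.InjHull.Matlis

/-!
Matlis duality over local rings: endomorphisms of the hull, finite and Artinian modules.
-/

namespace Groth.Agent.InjHull

universe u v

variable {R : Type u} [CommRing R] {m : Ideal R} [m.IsMaximal] {E : Type u} [AddCommGroup E]
  [Module R E] {f : (R ⧸ m) →ₗ[R] E}

/-- An injective map from the residue field containing the socle of a torsion module is
essential. -/
theorem isEssentialInj_of_socle_le (ht : _root_.LocCoh.IsPowerTorsion m E) (g : (R ⧸ m) →ₗ[R] E)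
    (hg : Function.Injective g) (hs : ∀ y : E, (∀ a ∈ m, a • y = 0) → y ∈ LinearMap.range g) :
    _root_.InjHull.IsEssentialInj g := by
  refine isEssentialInj_iff.2 ⟨hg, fun x hx => ?_⟩
  obtain ⟨k, hk⟩ := ht x
  have key : ∀ k, ∀ y : E, y ≠ 0 → (∀ a ∈ m ^ k, a • y = 0) →
      ∃ r : R, r • y ∈ LinearMap.range g ∧ r • y ≠ 0 := by
    intro k
    induction k with
    | zero => exact fun y hy h => absurd (by simpa using h 1 (by simp)) hy
    | succ k ih =>
      intro y hy h
      by_cases hb : ∀ b ∈ m ^ k, b • y = 0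
      · exact ih y hy hb
      push Not at hb
      obtain ⟨b, hbm, hby⟩ := hb
      refine ⟨b, hs _ fun a ha => ?_, hby⟩
      rw [smul_smul]
      exact h _ (by rw [pow_succ']; exact Ideal.mul_mem_mul ha hbm)
  exact key k x hx hk

theorem exists_isEssentialInj_of_simple_socle (ht : _root_.LocCoh.IsPowerTorsion m E)
    (hs : IsSimpleModule R ((R ⧸ m) →ₗ[R] E)) :
    ∃ g : (R ⧸ m) →ₗ[R] E, _root_.InjHull.IsEssentialInj g := by
  have := IsSimpleModule.nontrivial R ((R ⧸ m) →ₗ[R] E)
  obtain ⟨g, hg⟩ := exists_ne (0 : (R ⧸ m) →ₗ[R] E)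
  have hsimp : IsSimpleModule R (R ⧸ m) :=
    isSimpleModule_iff_quot_maximal.2 ⟨m, ‹_›, ⟨LinearEquiv.refl R _⟩⟩
  refine ⟨g, isEssentialInj_of_socle_le ht g ((LinearMap.injective_or_eq_zero g).resolve_right hg)
    fun y hy => ?_⟩
  let h' : (R ⧸ m) →ₗ[R] E := m.liftQ (LinearMap.toSpanSingleton R E y) fun a ha => by
    rw [LinearMap.mem_ker, LinearMap.toSpanSingleton_apply]
    exact hy a ha
  have hmem : h' ∈ Submodule.span R ({g} : Set ((R ⧸ m) →ₗ[R] E)) := by
    rw [IsSimpleModule.span_singleton_eq_top R hg]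
    exact Submodule.mem_top
  obtain ⟨c, hc⟩ := Submodule.mem_span_singleton.1 hmem
  refine ⟨c • Submodule.Quotient.mk 1, ?_⟩
  rw [map_smul]
  have h1 := LinearMap.congr_fun hc (Submodule.Quotient.mk 1)
  rw [show h' (Submodule.Quotient.mk 1) = (1 : R) • y from rfl, one_smul] at h1
  exact h1

/-- An injective torsion module with simple socle is a hull of the residue field. -/
theorem exists_isInjectiveHull_of_simple_socle [Module.Injective R E]
    (ht : _root_.LocCoh.IsPowerTorsion m E) (hs : IsSimpleModule R ((R ⧸ m) →ₗ[R] E)) :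
    ∃ g : (R ⧸ m) →ₗ[R] E, _root_.InjHull.IsInjectiveHull g := by
  obtain ⟨g, hg⟩ := exists_isEssentialInj_of_simple_socle ht hs
  exact ⟨g, ⟨hg, inferInstance⟩⟩

omit [m.IsMaximal] in
/-- The part of an injective module killed by an ideal is injective over the quotient ring. -/
theorem injective_torsionBy (b : Ideal R) [Module.Injective R E] :
    Module.Injective (R ⧸ b) ↥(_root_.LocCoh.torsionBy b E) := by
  refine Module.Baer.injective fun I h => ?_
  let I' : Ideal R := I.comap (Ideal.Quotient.mk b)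
  let h' : I' →ₗ[R] E :=
    { toFun := fun x => (h ⟨Ideal.Quotient.mk b x, x.2⟩ : _root_.LocCoh.torsionBy b E)
      map_add' := fun x y => by
        rw [← Submodule.coe_add, ← map_add h]
        rfl
      map_smul' := fun c x => by
        rw [RingHom.id_apply]
        show ((h (Ideal.Quotient.mk b c • ⟨Ideal.Quotient.mk b x, x.2⟩) :
          _root_.LocCoh.torsionBy b E) : E) = _
        rw [map_smul]
        rfl }
  obtain ⟨k, hk⟩ := Module.Injective.out (R := R) I'.subtype I'.injective_subtype h'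
  have hk1 : k 1 ∈ _root_.LocCoh.torsionBy b E := by
    rw [Submodule.mem_torsionBySet_iff]
    rintro ⟨a, ha⟩
    have hmk : Ideal.Quotient.mk b a = 0 := Ideal.Quotient.eq_zero_iff_mem.2 ha
    have haI : a ∈ I' := by
      show Ideal.Quotient.mk b a ∈ I
      rw [hmk]; exact zero_mem _
    have h1 := hk ⟨a, haI⟩
    rw [Submodule.subtype_apply] at h1
    rw [← k.map_smul, smul_eq_mul, mul_one]
    refine h1.trans ?_
    show ((h ⟨Ideal.Quotient.mk b a, haI⟩ : _root_.LocCoh.torsionBy b E) : E) = 0
    rw [show (⟨Ideal.Quotient.mk b a, haI⟩ : I) = 0 from Subtype.ext hmk, map_zero]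
    rfl
  refine ⟨LinearMap.toSpanSingleton _ _ ⟨k 1, hk1⟩, fun c hc => ?_⟩
  obtain ⟨c, rfl⟩ := Ideal.Quotient.mk_surjective c
  refine Subtype.ext ?_
  show c • k 1 = _
  rw [← k.map_smul, smul_eq_mul, mul_one]
  exact hk ⟨c, hc⟩

omit [m.IsMaximal] in
/-- Over a finite field extension every functional is a translate of a given nonzero one. -/
theorem exists_mul_eq_of_finite {K L : Type*} [Field K] [Field L] [Algebra K L] [Module.Finite K L]
    {φ : L →ₗ[K] K} (hφ : φ ≠ 0) (ψ : L →ₗ[K] K) : ∃ a : L, ∀ x, φ (x * a) = ψ x := by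
  let T : L →ₗ[K] (L →ₗ[K] K) :=
    { toFun := fun a => φ ∘ₗ LinearMap.mulRight K a
      map_add' := fun a b => LinearMap.ext fun x => by simp [mul_add]
      map_smul' := fun c a => LinearMap.ext fun x => by simp }
  have hT : Function.Injective T := by
    refine (injective_iff_map_eq_zero T).2 fun a ha => ?_
    by_contra h0
    refine hφ (LinearMap.ext fun x => ?_)
    have := LinearMap.congr_fun ha (x * a⁻¹)
    simpa [T, mul_assoc, inv_mul_cancel₀ h0] using this
  obtain ⟨a, ha⟩ := (LinearMap.injective_iff_surjective_of_finrank_eq_finrank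
    (Subspace.dual_finrank_eq (K := K) (V := L)).symm).1 hT ψ
  exact ⟨a, fun x => LinearMap.congr_fun ha x⟩

variable (hf : _root_.InjHull.IsInjectiveHull f)

include hf in
theorem isSimpleModule_socle : IsSimpleModule R ((R ⧸ m) →ₗ[R] E) := by
  have hsimp : IsSimpleModule R (R ⧸ m) :=
    isSimpleModule_iff_quot_maximal.2 ⟨m, ‹_›, ⟨LinearEquiv.refl R _⟩⟩
  rw [← Module.length_eq_one_iff, length_quotient_linearMap hf, Module.length_eq_one]

variable [IsNoetherianRing R]

include hf in
/-- An endomorphism of the hull is given on each finite level by a multiplication, compatibly. -/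
theorem exists_smul_family (φ : Module.End R E) :
    ∃ r : ℕ → R, (∀ k y, (∀ a ∈ m ^ k, a • y = 0) → φ y = r k • y) ∧
      ∀ i j, i ≤ j → r i - r j ∈ m ^ i := by
  have h : ∀ k, ∃ r : R, ∀ y, (∀ a ∈ m ^ k, a • y = 0) → φ y = r • y := by
    intro k
    obtain ⟨r, hr⟩ := exists_smul_of_linearMap hf k
      (Submodule.torsionBySet R E ((m ^ k : Ideal R) : Set R))
      (fun a ha y hy => (Submodule.mem_torsionBySet_iff _ _).1 hy ⟨a, ha⟩)
      (φ ∘ₗ Submodule.subtype _)
    exact ⟨r, fun y hy => hr ⟨y, (Submodule.mem_torsionBySet_iff _ _).2 fun b => hy b b.2⟩⟩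
  choose r hr using h
  refine ⟨r, hr, fun i j hij => mem_pow_of_forall_smul_eq_zero hf i fun y hy => ?_⟩
  rw [sub_smul, ← hr i y hy, ← hr j y fun a ha => hy a (Ideal.pow_le_pow_right hij ha), sub_self]

include hf in
theorem exists_smul_eq_end [IsAdicComplete m R] (φ : Module.End R E) :
    ∃ r : R, ∀ y, φ y = r • y := by
  obtain ⟨r, hr, hc⟩ := exists_smul_family hf φ
  obtain ⟨s, hs⟩ := IsPrecomplete.prec (I := m) inferInstance (f := r) fun {i j} hij => by
    rw [SModEq.sub_mem, smul_eq_mul, Ideal.mul_top]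
    exact hc i j hij
  refine ⟨s, fun y => ?_⟩
  obtain ⟨k, hk⟩ := isPowerTorsion_hull hf y
  have h1 := hs k
  rw [SModEq.sub_mem, smul_eq_mul, Ideal.mul_top] at h1
  rw [hr k y hk, ← sub_eq_zero, ← sub_smul]
  exact hk _ h1

include hf in
/-- The endomorphism ring of the hull is the completion. -/
theorem end_equiv_adicCompletion :
    Nonempty (Module.End R E ≃ₐ[R] AdicCompletion m R) := by
  choose r hr hc using exists_smul_family hf
  have hev : ∀ φ : Module.End R E, ∃ x : AdicCompletion m R,
      ∀ k, AdicCompletion.evalₐ m k x = Ideal.Quotient.mk (m ^ k) (r φ k) := by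
    intro φ
    refine ⟨⟨fun k => Submodule.Quotient.mk (r φ k), fun {i j} hij => ?_⟩, fun k => ?_⟩
    · show Submodule.Quotient.mk (r φ j) = Submodule.Quotient.mk (r φ i)
      rw [eq_comm, Submodule.Quotient.eq, smul_eq_mul, Ideal.mul_top]
      exact hc φ i j hij
    · rfl
  choose Φ hΦ using hev
  have huniq : ∀ φ k (s : R), (∀ y, (∀ a ∈ m ^ k, a • y = 0) → φ y = s • y) →
      AdicCompletion.evalₐ m k (Φ φ) = Ideal.Quotient.mk (m ^ k) s := by
    intro φ k s hs
    rw [hΦ, Ideal.Quotient.eq]
    refine mem_pow_of_forall_smul_eq_zero hf k fun y hy => ?_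
    rw [sub_smul, ← hr φ k y hy, ← hs y hy, sub_self]
  let Ψ : Module.End R E →ₐ[R] AdicCompletion m R :=
    { toFun := Φ
      map_one' := AdicCompletion.ext_evalₐ fun k => by
        rw [huniq 1 k 1 fun y _ => (one_smul R y).symm, map_one, map_one]
      map_mul' := fun φ ψ => AdicCompletion.ext_evalₐ fun k => by
        rw [map_mul, hΦ φ k, hΦ ψ k, ← map_mul]
        refine huniq _ k _ fun y hy => ?_
        show φ (ψ y) = _
        rw [hr ψ k y hy, map_smul, hr φ k y hy, smul_smul, mul_comm]
      map_zero' := AdicCompletion.ext_evalₐ fun k => by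
        rw [huniq 0 k 0 fun y _ => (zero_smul R y).symm, map_zero, map_zero]
      map_add' := fun φ ψ => AdicCompletion.ext_evalₐ fun k => by
        rw [map_add, hΦ φ k, hΦ ψ k, ← map_add]
        refine huniq _ k _ fun y hy => ?_
        show φ y + ψ y = _
        rw [hr φ k y hy, hr ψ k y hy, add_smul]
      commutes' := fun s => AdicCompletion.ext_evalₐ fun k => by
        rw [AlgHom.commutes]
        exact huniq _ k s fun y _ => rfl }
  refine ⟨AlgEquiv.ofBijective Ψ ⟨(injective_iff_map_eq_zero Ψ).2 fun φ hφ => ?_, fun x => ?_⟩⟩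
  · refine LinearMap.ext fun y => ?_
    obtain ⟨k, hk⟩ := isPowerTorsion_hull hf y
    have h1 : AdicCompletion.evalₐ m k (Φ φ) = 0 := by
      rw [show Φ φ = 0 from hφ, map_zero]
    rw [hΦ, Ideal.Quotient.eq_zero_iff_mem] at h1
    rw [hr φ k y hk]
    exact hk _ h1
  · choose s hs using fun k => Ideal.Quotient.mk_surjective (AdicCompletion.evalₐ m k x)
    choose K hK using isPowerTorsion_hull hf
    have hsc : ∀ i j, i ≤ j → s i - s j ∈ m ^ i := by
      intro i j hij
      rw [← Ideal.Quotient.eq, hs i]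
      have h2 : Ideal.Quotient.factor (Ideal.pow_le_pow_right hij) (AdicCompletion.evalₐ m j x)
          = AdicCompletion.evalₐ m i x := by
        obtain ⟨v, hv⟩ := Submodule.Quotient.mk_surjective _ (x.1 j)
        have hi : x.1 i = Submodule.Quotient.mk v := by
          rw [← x.2 hij, ← hv]
          rfl
        have e : ∀ l, (m ^ l • ⊤ : Ideal R) = m ^ l := fun l => by rw [smul_eq_mul, Ideal.mul_top]
        show Ideal.Quotient.factor _ (Ideal.quotientEquivAlgOfEq R (e j) (x.1 j))
          = Ideal.quotientEquivAlgOfEq R (e i) (x.1 i)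
        rw [hi, ← hv]
        rfl
      rw [← h2, ← hs j, Ideal.Quotient.factor_mk]
    have hlev : ∀ k y, (∀ a ∈ m ^ k, a • y = 0) → s (K y) • y = s k • y := by
      intro k y hy
      rw [← sub_eq_zero, ← sub_smul]
      rcases le_total (K y) k with h | h
      · exact hK y _ (hsc _ _ h)
      · rw [← neg_sub (s k), neg_smul, hy _ (hsc _ _ h), neg_zero]
    refine ⟨{ toFun := fun y => s (K y) • y
              map_add' := fun y z => ?_
              map_smul' := fun c y => ?_ }, AdicCompletion.ext_evalₐ fun k => ?_⟩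
    · have hy : ∀ a ∈ m ^ (max (K y) (K z)), a • y = 0 := fun a ha =>
        hK y a (Ideal.pow_le_pow_right (le_max_left _ _) ha)
      have hz : ∀ a ∈ m ^ (max (K y) (K z)), a • z = 0 := fun a ha =>
        hK z a (Ideal.pow_le_pow_right (le_max_right _ _) ha)
      rw [hlev _ (y + z) (fun a ha => by rw [smul_add, hy a ha, hz a ha, add_zero]), hlev _ y hy,
        hlev _ z hz, smul_add]
    · rw [RingHom.id_apply, hlev (K y) (c • y) (fun a ha => by rw [smul_comm, hK y a ha, smul_zero]),
        smul_comm]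
    · rw [← hs k]
      exact huniq _ k (s k) fun y hy => hlev k y hy

include hf in
theorem apply_bijective_of_finite [IsLocalRing R] (hm : m = IsLocalRing.maximalIdeal R)
    [IsAdicComplete m R] {M : Type u} [AddCommGroup M] [Module R M] [Module.Finite R M] :
    Function.Bijective (LinearMap.applyₗ : M →ₗ[R] (M →ₗ[R] E) →ₗ[R] E) := by
  classical
  subst hm
  refine ⟨apply_injective_local hf, fun lam => ?_⟩
  have hinj := hf.isInjective
  obtain ⟨n, g, hg⟩ := Module.Finite.exists_fin (R := R) (M := M)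
  let ev : (M →ₗ[R] E) →ₗ[R] (Fin n → E) := LinearMap.pi fun i => LinearMap.applyₗ (g i)
  have hev : Function.Injective ev := fun a b hab => LinearMap.ext_on_range hg fun i => congrFun hab i
  obtain ⟨Lam, hLam⟩ := Module.Injective.out (R := R) ev hev lam
  have hL : ∀ i, ∃ r : R, ∀ y : E, Lam (Pi.single i y) = r • y :=
    fun i => exists_smul_eq_end hf (Lam ∘ₗ LinearMap.single R (fun _ => E) i)
  choose r hr using hL
  refine ⟨∑ i, r i • g i, LinearMap.ext fun h => ?_⟩
  rw [← hLam h]
  show h (∑ i, r i • g i) = Lam (ev h)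
  conv_rhs => rw [← Finset.univ_sum_single (ev h), map_sum]
  rw [map_sum]
  refine Finset.sum_congr rfl fun i _ => ?_
  rw [map_smul, hr]
  rfl

include hf in
theorem finite_and_bijective_of_artinian [IsLocalRing R] (hm : m = IsLocalRing.maximalIdeal R)
    [IsAdicComplete m R] {M : Type u} [AddCommGroup M] [Module R M] [IsArtinian R M] :
    Module.Finite R (M →ₗ[R] E) ∧
      Function.Bijective (LinearMap.applyₗ : M →ₗ[R] (M →ₗ[R] E) →ₗ[R] E) := by
  classical
  subst hm
  have hinj := hf.isInjective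
  let mm := IsLocalRing.maximalIdeal R
  have := finite_socle_of_isArtinian (R := R) M
  obtain ⟨s, hs⟩ := exists_socle_embedding hf (V := _root_.LocCoh.torsionBy mm M)
    (Module.finrank (R ⧸ mm) ↥(_root_.LocCoh.torsionBy mm M)) rfl
  obtain ⟨g, hg⟩ := exists_embedding_of_socle hf (isPowerTorsion_of_isArtinian M) _ s hs
  generalize Module.finrank (R ⧸ mm) ↥(_root_.LocCoh.torsionBy mm M) = n at g hg
  clear s hs
  have hsingle : ∀ h : (Fin n → E) →ₗ[R] E, ∃ r : Fin n → R, ∀ y, h y = ∑ i, r i • y i := by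
    intro h
    choose r hr using fun i => exists_smul_eq_end hf (h ∘ₗ LinearMap.single R (fun _ => E) i)
    refine ⟨r, fun y => ?_⟩
    conv_lhs => rw [← Finset.univ_sum_single y, map_sum]
    exact Finset.sum_congr rfl fun i _ => hr i (y i)
  let proj : Fin n → (M →ₗ[R] E) := fun i => LinearMap.proj i ∘ₗ g
  have hgen : ∀ h : M →ₗ[R] E, ∃ r : Fin n → R, ∑ i, r i • proj i = h := by
    intro h
    obtain ⟨h', hh'⟩ := Module.Injective.out (R := R) g hg h
    obtain ⟨r, hr⟩ := hsingle h'
    refine ⟨r, LinearMap.ext fun x => ?_⟩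
    rw [← hh', hr]
    simp [proj, LinearMap.sum_apply]
  refine ⟨⟨⟨Finset.univ.image proj, ?_⟩⟩, apply_injective_local hf, fun lam => ?_⟩
  · rw [Finset.coe_image, Finset.coe_univ, Set.image_univ, eq_top_iff]
    intro h _
    exact (Submodule.mem_span_range_iff_exists_fun R).2 (hgen h)
  let y : Fin n → E := fun i => lam (proj i)
  have hy : y ∈ LinearMap.range g := by
    by_contra hne
    have h0 : (LinearMap.range g).mkQ y ≠ 0 := fun h => hne (by
      rwa [Submodule.mkQ_apply, Submodule.Quotient.mk_eq_zero] at h)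
    obtain ⟨h, hh⟩ := exists_dual_apply_ne_zero hf (x := (LinearMap.range g).mkQ y) fun a ha => by
      by_contra ham
      obtain ⟨u, rfl⟩ := IsLocalRing.notMem_maximalIdeal.1 ham
      exact h0 (by rw [← one_smul R ((LinearMap.range g).mkQ y), ← u.inv_mul, mul_smul, ha, smul_zero])
    obtain ⟨r, hr⟩ := hsingle (h ∘ₗ (LinearMap.range g).mkQ)
    apply hh
    have h1 : ∑ i, r i • proj i = 0 := LinearMap.ext fun x => by
      have h2 := hr (g x)
      rw [LinearMap.comp_apply, Submodule.mkQ_apply,
        (Submodule.Quotient.mk_eq_zero _).2 (LinearMap.mem_range_self g x), map_zero] at h2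
      rw [LinearMap.zero_apply, h2]
      simp [proj, LinearMap.sum_apply]
    show (h ∘ₗ (LinearMap.range g).mkQ) y = 0
    rw [hr, ← map_zero lam, ← h1, map_sum]
    exact Finset.sum_congr rfl fun i _ => (map_smul lam (r i) (proj i)).symm
  obtain ⟨x, hx⟩ := hy
  refine ⟨x, LinearMap.ext fun h => ?_⟩
  obtain ⟨r, rfl⟩ := hgen h
  show (∑ i, r i • proj i) x = lam (∑ i, r i • proj i)
  rw [map_sum, LinearMap.sum_apply]
  refine Finset.sum_congr rfl fun i _ => ?_
  rw [map_smul, LinearMap.smul_apply]
  show r i • g x i = r i • y i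
  rw [hx]

end Groth.Agent.InjHull
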