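import Groth.Agent.InjHull.Duality
import Groth.Agent.InjHull.Matlis
import Groth.Agent.Goren.Artin
import Mathlib.RingTheory.LocalRing.Length
import Mathlib.RingTheory.TensorProduct.Quotient

/-!
Base change of the injective hull of the residue field along a flat local map with Artinian
Gorenstein fibre.
-/

set_option autoImplicit false

universe u

open TensorProduct IsLocalRing

noncomputable section

namespace Groth.Agent.InjHull

variable {A : Type u} [CommRing A] (B : Type u) [CommRing B] [Algebra A B] [Module.Flat A B]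
  {E : Type u} [AddCommGroup E] [Module A E]

omit [Module.Flat A B] in
/-- The scalars of `A` acting on `B ⊗ E`. -/
theorem lTensor_smul_id (a : A) (y : B ⊗[A] E) :
    LinearMap.lTensor B (a • (LinearMap.id : E →ₗ[A] E)) y = a • y := by
  rw [LinearMap.lTensor_smul, LinearMap.smul_apply, LinearMap.lTensor_id, LinearMap.id_apply]

/-- In a flat base change, the part killed by finitely many scalars comes from the part killed by
them. -/
theorem mem_range_lTensor_torsionBy (J : Ideal A) (hJ : J.FG) (y : B ⊗[A] E)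
    (hy : ∀ a ∈ J, a • y = 0) :
    y ∈ LinearMap.range (LinearMap.lTensor B (_root_.LocCoh.torsionBy J E).subtype) := by
  classical
  obtain ⟨k, a, ha⟩ := Submodule.fg_iff_exists_fin_generating_family.1 hJ
  let ψ : E →ₗ[A] (Fin k → E) := LinearMap.pi fun i => a i • LinearMap.id
  have hex : Function.Exact (_root_.LocCoh.torsionBy J E).subtype ψ := by
    intro x
    constructor
    · intro hx
      refine ⟨⟨x, ?_⟩, rfl⟩
      rw [Submodule.mem_torsionBySet_iff]
      rintro ⟨c, hc⟩
      have hle : J ≤ LinearMap.ker (LinearMap.toSpanSingleton A E x) := by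
        rw [← ha, Submodule.span_le]
        rintro _ ⟨i, rfl⟩
        exact congrFun hx i
      exact hle hc
    · rintro ⟨⟨z, hz⟩, rfl⟩
      funext i
      exact (Submodule.mem_torsionBySet_iff _ _).1 hz ⟨a i, ha ▸ Submodule.subset_span ⟨i, rfl⟩⟩
  have h0 : LinearMap.lTensor B ψ y = 0 := by
    apply (TensorProduct.piRight A A B fun _ : Fin k => E).injective
    rw [map_zero]
    funext i
    have hcomp : (LinearMap.proj i ∘ₗ
        (TensorProduct.piRight A A B fun _ : Fin k => E).toLinearMap) ∘ₗ LinearMap.lTensor B ψ =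
        LinearMap.lTensor B (a i • (LinearMap.id : E →ₗ[A] E)) := by
      refine TensorProduct.ext' fun b x => ?_
      simp [ψ]
    exact (LinearMap.congr_fun hcomp y).trans ((lTensor_smul_id B (a i) y).trans
      (hy _ (ha ▸ Submodule.subset_span ⟨i, rfl⟩)))
  exact (Module.Flat.lTensor_exact B hex y).1 h0

/-- Homomorphisms out of a cyclic module are the torsion. -/
theorem length_torsionBy_eq {R : Type u} [CommRing R] (J : Ideal R) (N : Type u) [AddCommGroup N]
    [Module R N] :
    Module.length R (_root_.LocCoh.torsionBy J N) = Module.length R ((R ⧸ J) →ₗ[R] N) := by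
  let φ : ((R ⧸ J) →ₗ[R] N) →ₗ[R] _root_.LocCoh.torsionBy J N :=
    (LinearMap.applyₗ (R := R) (Ideal.Quotient.mk J 1)).codRestrict _ fun g => by
      rw [Submodule.mem_torsionBySet_iff]
      intro c
      show (c : R) • g (Ideal.Quotient.mk J 1) = 0
      rw [← map_smul, show (c : R) • (Ideal.Quotient.mk J 1 : R ⧸ J) = 0 from by
        show Ideal.Quotient.mk J ((c : R) * 1) = 0
        rw [mul_one]; exact Ideal.Quotient.eq_zero_iff_mem.2 c.2, map_zero]
  refine (LinearEquiv.length_eq (LinearEquiv.ofBijective φ ⟨fun g g' h => ?_, fun x => ?_⟩)).symm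
  · refine Submodule.linearMap_qext _ (LinearMap.ext_ring ?_)
    exact congrArg Subtype.val h
  · refine ⟨J.liftQ (LinearMap.toSpanSingleton R N x) fun c hc => ?_, Subtype.ext ?_⟩
    · rw [LinearMap.mem_ker, LinearMap.toSpanSingleton_apply]
      exact (Submodule.mem_torsionBySet_iff _ _).1 x.2 ⟨c, hc⟩
    · exact one_smul R (x : N)

variable [IsLocalRing A] [IsNoetherianRing A] [IsLocalRing B] [IsNoetherianRing B]

theorem exists_hull_baseChange
    (hG : _root_.LocCoh.IsGorensteinLocalRing (B ⧸ (maximalIdeal A).map (algebraMap A B)))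
    (hArt : IsArtinianRing (B ⧸ (maximalIdeal A).map (algebraMap A B)))
    (f : ResidueField A →ₗ[A] E) (hf : _root_.InjHull.IsInjectiveHull f) :
    ∃ g : ResidueField B →ₗ[B] B ⊗[A] E, _root_.InjHull.IsInjectiveHull g := by
  classical
  let mA := maximalIdeal A
  let mB := maximalIdeal B
  let K : Ideal B := mA.map (algebraMap A B)
  have hfA : _root_.InjHull.IsInjectiveHull (M := A ⧸ mA) f := hf
  have htE : _root_.LocCoh.IsPowerTorsion mA E := isPowerTorsion_hull hfA
  have hK : K ≠ ⊤ := by
    intro h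
    have hsub : Subsingleton (B ⧸ K) := Ideal.Quotient.subsingleton_iff.2 h
    exact not_subsingleton _ (hsub : Subsingleton (B ⧸ (maximalIdeal A).map (algebraMap A B)))
  haveI : Nontrivial (B ⧸ K) := Ideal.Quotient.nontrivial_iff.2 hK
  haveI : IsLocalRing (B ⧸ K) :=
    IsLocalRing.of_surjective' (Ideal.Quotient.mk K) Ideal.Quotient.mk_surjective
  have hKm : K ≤ mB := IsLocalRing.le_maximalIdeal hK
  haveI : IsArtinianRing (B ⧸ K) := hArt
  have hdim : ringKrullDim (B ⧸ K) = 0 :=
    ringKrullDimZero_iff_ringKrullDim_eq_zero.1 inferInstance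
  obtain ⟨s', hs0, hsm, hs⟩ := (Goren.gorenstein_iff_socSimple (B ⧸ K) hdim).1 hG
  obtain ⟨s, rfl⟩ := Ideal.Quotient.mk_surjective s'
  obtain ⟨N, hN⟩ : ∃ N, mB ^ N ≤ K := by
    obtain ⟨N, hN⟩ := IsArtinianRing.isNilpotent_jacobson_bot (R := B ⧸ K)
    rw [IsLocalRing.jacobson_eq_maximalIdeal ⊥ bot_ne_top] at hN
    refine ⟨N, fun x hx => Ideal.Quotient.eq_zero_iff_mem.1 ?_⟩
    have hle : mB.map (Ideal.Quotient.mk K) ≤ maximalIdeal (B ⧸ K) := by
      rw [Ideal.map_le_iff_le_comap]
      intro y hy
      rw [Ideal.mem_comap, mem_maximalIdeal, mem_nonunits_iff]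
      intro hu
      obtain ⟨v, hv⟩ := hu.exists_right_inv
      obtain ⟨v, rfl⟩ := Ideal.Quotient.mk_surjective v
      rw [← map_mul, ← map_one (Ideal.Quotient.mk K), Ideal.Quotient.eq] at hv
      exact (maximalIdeal.isMaximal B).ne_top ((Ideal.eq_top_iff_one _).2 (by
        have h1 := sub_mem (mB.mul_mem_right v hy) (hKm hv)
        rwa [sub_sub_cancel] at h1))
    have h1 : Ideal.Quotient.mk K x ∈ maximalIdeal (B ⧸ K) ^ N :=
      Ideal.pow_right_mono hle N (Ideal.map_pow (Ideal.Quotient.mk K) mB N ▸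
        Ideal.mem_map_of_mem _ hx)
    rwa [hN] at h1
  haveI : IsLocalHom (algebraMap A B) :=
    ((IsLocalRing.local_hom_TFAE (algebraMap A B)).out 2 0 rfl rfl).1 hKm
  -- the socle
  let e0 : E := f (residue A 1)
  let θ : B →ₗ[B] B ⊗[A] E :=
    LinearMap.toSpanSingleton B (B ⊗[A] E) ((1 : B) ⊗ₜ e0)
  have hθ : ∀ b, θ b = b ⊗ₜ e0 := fun b => by
    simp [θ, TensorProduct.smul_tmul']
  have hker : ∀ b, θ b = 0 → b ∈ K := by
    intro b hb
    rw [hθ] at hb
    have h1 : (b ⊗ₜ[A] (Ideal.Quotient.mk mA 1) : B ⊗[A] (A ⧸ mA)) = 0 :=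
      (Module.Flat.lTensor_preserves_injective_linearMap (M := B) f hf.injective)
        ((LinearMap.lTensor_tmul B f b _).trans (hb.trans (map_zero _).symm))
    have h2 := congrArg (TensorProduct.tensorQuotEquivQuotSMul B mA) h1
    rw [map_zero, TensorProduct.tensorQuotEquivQuotSMul_tmul_mk, one_smul,
      Submodule.Quotient.mk_eq_zero, Ideal.smul_top_eq_map] at h2
    exact h2
  have hrange : ∀ y : B ⊗[A] E, (∀ a ∈ mA, a • y = 0) → ∃ b, θ b = y := by
    intro y hy
    obtain ⟨z, rfl⟩ := mem_range_lTensor_torsionBy B mA (IsNoetherian.noetherian _) y hy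
    clear hy
    induction z with
    | zero => exact ⟨0, (map_zero θ).trans (map_zero _).symm⟩
    | tmul b x =>
      obtain ⟨c, hc⟩ := mem_range_of_smul_eq_zero hfA (y := (x : E))
        fun a ha => (Submodule.mem_torsionBySet_iff _ _).1 x.2 ⟨a, ha⟩
      obtain ⟨c, rfl⟩ := Ideal.Quotient.mk_surjective c
      refine ⟨c • b, ?_⟩
      rw [hθ, LinearMap.lTensor_tmul, Submodule.subtype_apply, ← hc, TensorProduct.smul_tmul,
        ← map_smul]
      congr 2
      show residue A (c * 1) = _
      rw [mul_one]; rfl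
    | add z z' hz hz' =>
      obtain ⟨b, hb⟩ := hz
      obtain ⟨b', hb'⟩ := hz'
      exact ⟨b + b', by rw [map_add, map_add, hb, hb']⟩
  have hKsmul : ∀ b ∈ K, θ b = 0 := by
    intro b hb
    refine (Ideal.map_le_iff_le_comap.2 ?_ : K ≤ LinearMap.ker θ) hb
    intro a ha
    show θ (algebraMap A B a) = 0
    rw [hθ, Algebra.algebraMap_eq_smul_one, TensorProduct.smul_tmul, ← map_smul,
      show a • (residue A 1 : ResidueField A) = 0 from by
        show residue A (a * 1) = 0
        rw [mul_one]; exact (residue_eq_zero_iff a).2 ha, map_zero, TensorProduct.tmul_zero]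
  let g0 : ResidueField B →ₗ[B] B ⊗[A] E :=
    (mB.liftQ (LinearMap.toSpanSingleton B (B ⊗[A] E) (θ s)) fun x hx => by
      rw [LinearMap.mem_ker, LinearMap.toSpanSingleton_apply, ← map_smul]
      refine hKsmul _ (Ideal.Quotient.eq_zero_iff_mem.1 ?_)
      rw [smul_eq_mul, map_mul]
      refine hsm _ ?_
      rw [mem_maximalIdeal, mem_nonunits_iff]
      intro hu
      obtain ⟨v, hv⟩ := hu.exists_right_inv
      obtain ⟨v, rfl⟩ := Ideal.Quotient.mk_surjective v
      rw [← map_mul, ← map_one (Ideal.Quotient.mk K), Ideal.Quotient.eq] at hv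
      exact (maximalIdeal.isMaximal B).ne_top ((Ideal.eq_top_iff_one _).2 (by
        have h1 := sub_mem (mB.mul_mem_right v hx) (hKm hv)
        rwa [sub_sub_cancel] at h1)))
  have hg0 : Function.Injective g0 := by
    refine (injective_iff_map_eq_zero g0).2 fun w hw => ?_
    obtain ⟨c, rfl⟩ := Submodule.Quotient.mk_surjective _ w
    have h1 : c • θ s = 0 := hw
    rw [← map_smul, smul_eq_mul] at h1
    refine (Submodule.Quotient.mk_eq_zero _).2 ?_
    by_contra hc
    obtain ⟨d, hd⟩ := (IsLocalRing.notMem_maximalIdeal.1 hc).exists_left_inv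
    refine hs0 (Ideal.Quotient.eq_zero_iff_mem.2 ?_)
    rw [show s = d * (c * s) by rw [← mul_assoc, hd, one_mul]]
    exact K.mul_mem_left d (hker _ h1)
  have htM : _root_.LocCoh.IsPowerTorsion K (B ⊗[A] E) := by
    intro y
    induction y with
    | zero => exact ⟨0, fun a _ => smul_zero a⟩
    | tmul b x =>
      obtain ⟨k, hk⟩ := htE x
      refine ⟨k, fun a ha => ?_⟩
      rw [← Ideal.map_pow] at ha
      induction ha using Submodule.span_induction with
      | mem v hv =>
        obtain ⟨c, hc, rfl⟩ := hv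
        rw [algebraMap_smul, ← TensorProduct.tmul_smul, hk c hc, TensorProduct.tmul_zero]
      | zero => exact zero_smul _ _
      | add v w _ _ hv hw => rw [add_smul, hv, hw, add_zero]
      | smul c v _ hv => rw [smul_eq_mul, mul_smul, hv, smul_zero]
    | add y z hy hz =>
      obtain ⟨k, hk⟩ := hy
      obtain ⟨l, hl⟩ := hz
      exact ⟨max k l, fun a ha => by
        rw [smul_add, hk a (Ideal.pow_le_pow_right (le_max_left k l) ha),
          hl a (Ideal.pow_le_pow_right (le_max_right k l) ha), add_zero]⟩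
  have htM' : _root_.LocCoh.IsPowerTorsion mB (B ⊗[A] E) := by
    intro y
    obtain ⟨k, hk⟩ := htM y
    exact ⟨N * k, fun a ha => hk a (Ideal.pow_right_mono hN k (pow_mul mB N k ▸ ha))⟩
  have hess : _root_.InjHull.IsEssentialInj (M := B ⧸ mB) g0 :=
    isEssentialInj_of_socle_le (m := mB) htM' g0 hg0 fun y hy => by
      obtain ⟨b, rfl⟩ := hrange y fun a ha => by
        rw [← algebraMap_smul B a y]
        exact hy _ (hKm (Ideal.mem_map_of_mem _ ha))
      obtain ⟨c, hc⟩ := Ideal.mem_span_singleton'.1 (hs (Ideal.Quotient.mk K b) fun x hx => by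
        obtain ⟨x, rfl⟩ := Ideal.Quotient.mk_surjective x
        rw [← map_mul]
        refine Ideal.Quotient.eq_zero_iff_mem.2 (hker _ ?_)
        rw [← smul_eq_mul, map_smul]
        refine hy x (IsLocalRing.le_maximalIdeal ?_ (?_ : x ∈ (maximalIdeal (B ⧸ K)).comap
          (Ideal.Quotient.mk K)))
        · exact Ideal.comap_ne_top _ (maximalIdeal.isMaximal _).ne_top
        · exact hx)
      obtain ⟨c, rfl⟩ := Ideal.Quotient.mk_surjective c
      refine ⟨Submodule.Quotient.mk c, ?_⟩
      show c • θ s = θ b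
      rw [← map_smul, smul_eq_mul, ← sub_eq_zero, ← map_sub]
      refine hKsmul _ (Ideal.Quotient.eq_zero_iff_mem.1 ?_)
      rw [map_sub, map_mul, hc, sub_self]
  obtain ⟨EB, _, _, f', hf'⟩ := exists_isInjectiveHull B (ResidueField B)
  haveI := hf'.isInjective
  obtain ⟨α, hα, -⟩ := exists_injective_extend hess f' hf'.injective
  have htEB : _root_.LocCoh.IsPowerTorsion mB EB :=
    isPowerTorsion_hull (hf' : _root_.InjHull.IsInjectiveHull (M := B ⧸ mB) f')
  have hsurj : Function.Surjective α := by
    intro x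
    obtain ⟨k, hk⟩ := htEB x
    let J : Ideal B := (mA ^ k).map (algebraMap A B)
    have hJle : J ≤ mB ^ k := by
      rw [show J = K ^ k from Ideal.map_pow _ _ _]
      exact Ideal.pow_right_mono hKm k
    have hJge : mB ^ (N * k) ≤ J := by
      rw [show J = K ^ k from Ideal.map_pow _ _ _, pow_mul]
      exact Ideal.pow_right_mono hN k
    let P : Submodule B EB := _root_.LocCoh.torsionBy J EB
    have hxP : x ∈ P := by
      rw [Submodule.mem_torsionBySet_iff]
      exact fun c => hk c (hJle c.2)
    let ι : B ⊗[A] (_root_.LocCoh.torsionBy (mA ^ k) E) →ₗ[B] EB :=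
      α ∘ₗ (_root_.LocCoh.torsionBy (mA ^ k) E).subtype.baseChange B
    have hι : Function.Injective ι := hα.comp
      (Module.Flat.lTensor_preserves_injective_linearMap _ (Submodule.injective_subtype _))
    have hιP : LinearMap.range ι ≤ P := by
      rintro _ ⟨z, rfl⟩
      rw [Submodule.mem_torsionBySet_iff]
      intro c
      show (c : B) • α ((_root_.LocCoh.torsionBy (mA ^ k) E).subtype.baseChange B z) = 0
      rw [← map_smul, ← map_smul, show (c : B) • z = 0 from ?_, map_zero, map_zero]
      refine (Ideal.map_le_iff_le_comap.2 ?_ : J ≤ LinearMap.ker (LinearMap.toSpanSingleton B _ z)) c.2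
      intro a ha
      show algebraMap A B a • z = 0
      induction z with
      | zero => exact smul_zero _
      | tmul b v =>
        rw [algebraMap_smul, ← TensorProduct.tmul_smul,
          show a • v = 0 from Subtype.ext ((Submodule.mem_torsionBySet_iff _ _).1 v.2 ⟨a, ha⟩),
          TensorProduct.tmul_zero]
      | add z z' hz hz' => rw [smul_add, hz, hz', add_zero]
    have hflA : IsFiniteLength A (A ⧸ mA ^ k) ∧ _root_.LocCoh.IsPowerTorsion mA (A ⧸ mA ^ k) := by
      have h0 : ∀ a ∈ mA ^ k, ∀ z : A ⧸ mA ^ k, a • z = 0 := fun a ha z => by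
        obtain ⟨z, rfl⟩ := Submodule.Quotient.mk_surjective _ z
        exact (Submodule.Quotient.mk_eq_zero _).2 ((mA ^ k).mul_mem_right z ha)
      exact ⟨isFiniteLength_of_pow_smul_eq_zero mA k _ inferInstance h0, fun z => ⟨k, fun a ha => h0 a ha z⟩⟩
    have hflB : IsFiniteLength B (B ⧸ J) ∧ _root_.LocCoh.IsPowerTorsion mB (B ⧸ J) := by
      have h0 : ∀ a ∈ mB ^ (N * k), ∀ z : B ⧸ J, a • z = 0 := fun a ha z => by
        obtain ⟨z, rfl⟩ := Submodule.Quotient.mk_surjective _ z
        exact (Submodule.Quotient.mk_eq_zero _).2 (J.mul_mem_right z (hJge ha))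
      exact ⟨isFiniteLength_of_pow_smul_eq_zero mB (N * k) _ inferInstance h0,
        fun z => ⟨N * k, fun a ha => h0 a ha z⟩⟩
    have hlenP : Module.length B P = Module.length B (B ⧸ J) := by
      rw [length_torsionBy_eq]
      exact length_dual (hf' : _root_.InjHull.IsInjectiveHull (M := B ⧸ mB) f') hflB.1 hflB.2
    have hlenI : Module.length B (LinearMap.range ι) = Module.length B (B ⧸ J) := by
      rw [← (LinearEquiv.ofInjective ι hι).length_eq, IsLocalRing.length_baseChange,
        (Algebra.TensorProduct.quotIdealMapEquivTensorQuot B (mA ^ k)).toLinearEquiv.length_eq,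
        IsLocalRing.length_baseChange, length_torsionBy_eq, length_dual hfA hflA.1 hflA.2]
    have hPfin : IsFiniteLength B P :=
      Module.length_ne_top_iff.1 (hlenP ▸ Module.length_ne_top_iff.2 hflB.1)
    have heq : LinearMap.range ι = P := by
      by_contra hne
      have hlt := lt_of_le_of_ne hιP hne
      have h2 := Module.length_eq_add_of_exact (Submodule.inclusion hιP)
        (LinearMap.range (Submodule.inclusion hιP)).mkQ (Submodule.inclusion_injective hιP)
        (Submodule.mkQ_surjective _) (LinearMap.exact_map_mkQ_range _)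
      rw [hlenI, ← hlenP] at h2
      have h3 : Module.length B (P ⧸ LinearMap.range (Submodule.inclusion hιP)) = 0 :=
        ENat.add_right_injective_of_ne_top (Module.length_ne_top_iff.2 hPfin)
          (h2.symm.trans (add_zero _).symm)
      haveI := Module.length_eq_zero_iff.1 h3
      have hr : LinearMap.range (Submodule.inclusion hιP) = ⊤ :=
        Submodule.Quotient.subsingleton_iff.1 inferInstance
      obtain ⟨v, hv, hv'⟩ := SetLike.exists_of_lt hlt
      obtain ⟨w, hw⟩ := LinearMap.range_eq_top.1 hr ⟨v, hv⟩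
      exact hv' (by have hw' : (w : EB) = v := congrArg Subtype.val hw; rw [← hw']; exact w.2)
    obtain ⟨z, hz⟩ := heq.symm ▸ hxP
    exact ⟨_, hz⟩
  exact ⟨_, isInjectiveHull_of_linearEquiv hf' (LinearEquiv.ofBijective α ⟨hα, hsurj⟩).symm⟩

end Groth.Agent.InjHull
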