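import Mathlib
import Groth.Prelude.Def_Wider
import Groth.Agent.InjHull.Matlis
import Groth.Agent.H4Easy.Batch8

/-!
Injective modules and flat ring maps: a local criterion of injectivity over Noetherian rings,
restriction along flat maps.
-/

set_option autoImplicit false

open scoped TensorProduct

namespace Groth.Agent.InjHull

universe u

/-- Over a Noetherian ring, `N` is injective as soon as every map out of a prime ideal becomes,
after multiplication by an element outside the prime, a multiplication. -/
theorem injective_of_prime_local {B : Type u} [CommRing B] [IsNoetherianRing B] (N : Type u)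
    [AddCommGroup N] [Module B N]
    (h : ∀ q : Ideal B, q.IsPrime → ∀ φ : q →ₗ[B] N,
      ∃ (x : N) (f : B), f ∉ q ∧ ∀ c : q, f • φ c = (c : B) • x) :
    Module.Injective B N := by
  refine Module.Baer.injective ?_
  suffices H : ∀ J : Ideal B, ∀ φ : J →ₗ[B] N, ∃ y : N, ∀ c : J, φ c = (c : B) • y by
    intro J φ
    obtain ⟨y, hy⟩ := H J φ
    exact ⟨LinearMap.toSpanSingleton B N y, fun c hc => (hy ⟨c, hc⟩).symm⟩
  intro J
  induction J using WellFoundedGT.induction with
  | _ J ih =>
    intro φ
    have step : ∀ a : B, a ∉ J → (∃ x : N, ∀ (c : B) (hc : c * a ∈ J), φ ⟨c * a, hc⟩ = c • x) →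
        ∃ y : N, ∀ c : J, φ c = (c : B) • y := by
      rintro a ha ⟨x, hx⟩
      let L : J × B →ₗ[B] B := LinearMap.coprod J.subtype (LinearMap.toSpanSingleton B B a)
      let P : J × B →ₗ[B] N := LinearMap.coprod φ (LinearMap.toSpanSingleton B N x)
      have hker : LinearMap.ker L.rangeRestrict ≤ LinearMap.ker P := by
        rw [LinearMap.ker_rangeRestrict]
        rintro ⟨c, d⟩ hcd
        simp only [L, LinearMap.mem_ker, LinearMap.coprod_apply, Submodule.subtype_apply,
          LinearMap.toSpanSingleton_apply, smul_eq_mul] at hcd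
        have hm : d * a ∈ J := by
          rw [show d * a = -(c : B) by linear_combination hcd]
          exact neg_mem c.2
        have hc : c = -⟨d * a, hm⟩ := Subtype.ext (by simp; linear_combination hcd)
        simp only [P, LinearMap.mem_ker, LinearMap.coprod_apply, LinearMap.toSpanSingleton_apply]
        rw [← hx d hm, hc, map_neg, neg_add_cancel]
      let χ : LinearMap.range L →ₗ[B] N := (LinearMap.ker L.rangeRestrict).liftQ P hker ∘ₗ
        (L.rangeRestrict.quotKerEquivOfSurjective L.surjective_rangeRestrict).symm.toLinearMap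
      have hlt : J < LinearMap.range L := by
        refine lt_of_le_of_ne (fun c hc => ⟨(⟨c, hc⟩, 0), by simp [L]⟩) fun he => ha ?_
        rw [he]
        exact ⟨(0, 1), by simp [L]⟩
      obtain ⟨y, hy⟩ := ih _ hlt χ
      refine ⟨y, fun c => ?_⟩
      have hχ : χ (L.rangeRestrict (c, 0)) = φ c := by simp [χ, P]
      rw [← hχ, hy]
      congr 1
      simp [L]
    by_cases htop : J = ⊤
    · subst htop
      refine ⟨φ ⟨1, trivial⟩, fun c => ?_⟩
      rw [← map_smul]
      congr 1
      exact Subtype.ext (by simp)
    by_cases hprime : J.IsPrime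
    · obtain ⟨x, f, hf, hx⟩ := h J hprime φ
      refine step f hf ⟨x, fun c hc => ?_⟩
      have hc' : c ∈ J := (hprime.mem_or_mem hc).resolve_right hf
      rw [show (⟨c * f, hc⟩ : J) = f • ⟨c, hc'⟩ from Subtype.ext (mul_comm c f), map_smul]
      exact hx ⟨c, hc'⟩
    · obtain ⟨a, b, hab, ha, hb⟩ : ∃ a b : B, a * b ∈ J ∧ a ∉ J ∧ b ∉ J := by
        by_contra hh
        push Not at hh
        exact hprime ⟨htop, fun {a b} hab => or_iff_not_imp_left.mpr (hh a b hab)⟩
      refine step a ha ?_
      let K : Ideal B := Submodule.comap (LinearMap.toSpanSingleton B B a) J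
      have hlt : J < K := by
        refine lt_of_le_of_ne (fun c hc => by simpa [K] using J.mul_mem_right a hc) fun he => hb ?_
        rw [he]
        simpa [K, mul_comm] using hab
      let ψ : K →ₗ[B] N := φ ∘ₗ (LinearMap.toSpanSingleton B B a).restrict (fun c hc => hc)
      obtain ⟨x, hx⟩ := ih K hlt ψ
      refine ⟨x, fun c hc => ?_⟩
      have := hx ⟨c, by simpa [K] using hc⟩
      rw [← this]
      rfl

/-- Restriction of scalars along a flat map preserves injectivity. -/
theorem injective_restrictScalars_of_flat (R S : Type u) [CommRing R] [CommRing S] [Algebra R S]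
    [Module.Flat R S] (E : Type u) [AddCommGroup E] [Module S E] [Module R E] [IsScalarTower R S E]
    [Module.Injective S E] : Module.Injective R E := by
  refine Module.Baer.injective fun I g => ?_
  let G : S ⊗[R] I →ₗ[S] E := LinearMap.liftBaseChange S g
  obtain ⟨ψ, hψ⟩ := Module.Injective.out (R := S) (Q := E) (I.subtype.baseChange S)
    (Module.Flat.lTensor_preserves_injective_linearMap I.subtype Subtype.val_injective) G
  refine ⟨LinearMap.toSpanSingleton R E (ψ (1 ⊗ₜ 1)), fun c hc => ?_⟩
  have h1 := hψ (1 ⊗ₜ ⟨c, hc⟩)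
  simp only [LinearMap.baseChange_tmul, Submodule.subtype_apply] at h1
  rw [LinearMap.toSpanSingleton_apply, ← algebraMap_smul S c, ← map_smul, TensorProduct.smul_tmul',
    show (algebraMap R S c • (1 : S)) ⊗ₜ[R] (1 : R) = (1 : S) ⊗ₜ[R] c by
      rw [algebraMap_smul, TensorProduct.smul_tmul, smul_eq_mul, mul_one], h1]
  simp [G]

end Groth.Agent.InjHull
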